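-- helper79 library: set-up for the principal block with a Sylow subgroup of prime order
-- (CALL S4441, consumer piece C3): generators, the p-complement of the centralizer, the modulus
-- `M₀`, and the first consequence of the lattice bound (non-exceptional characters have value
-- `0, 1, -1`).
import Cfsg.Agent.Helper75.LatDefs
import Cfsg.Agent.Helper75.Galois
import Cfsg.Agent.Helper82.ExcFinal

set_option autoImplicit false
open Cfsg

namespace Cfsg.Agent.Helper79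

universe u

variable {G : Type u} [Group G] [Fintype G]

/-- A nonidentity element of a Sylow subgroup of order `p` has order `p` and generates it. -/
theorem s4441_gen {p : ℕ} [Fact p.Prime] (P : Sylow p G) (hP : Nat.card P = p) (x : G)
    (hx : x ∈ (P : Subgroup G)) (hx1 : x ≠ 1) :
    orderOf x = p ∧ ∀ q ∈ (P : Subgroup G), ∃ i : ℕ, q = x ^ i := by
  have hp : p.Prime := Fact.out
  have hord : orderOf x = p := by
    have h1 : orderOf (⟨x, hx⟩ : (P : Subgroup G)) ∣ Nat.card (P : Subgroup G) :=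
      orderOf_dvd_natCard _
    have h2 : orderOf (⟨x, hx⟩ : (P : Subgroup G)) = orderOf x := Subgroup.orderOf_mk _ _
    rw [h2] at h1
    have h3 : orderOf x ∣ p := by rw [← hP]; exact h1
    rcases (Nat.dvd_prime hp).mp h3 with h | h
    · exact absurd (orderOf_eq_one_iff.mp h) hx1
    · exact h
  refine ⟨hord, ?_⟩
  have hz : Subgroup.zpowers x = (P : Subgroup G) := by
    apply Subgroup.eq_of_le_of_card_ge
    · exact (Subgroup.zpowers_le).mpr hx
    · rw [Nat.card_zpowers, hord]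
      exact hP.le
  intro q hq
  rw [← hz] at hq
  obtain ⟨i, hi⟩ := (Submonoid.mem_powers_iff q x).mp (mem_powers_iff_mem_zpowers.mpr hq)
  exact ⟨i, hi.symm⟩

omit [Fintype G] in
/-- A Sylow subgroup of prime order contains a nonidentity element. -/
theorem s4441_exists_ne_one {p : ℕ} [Fact p.Prime] (P : Sylow p G) (hP : Nat.card P = p) :
    ∃ x : G, x ∈ (P : Subgroup G) ∧ x ≠ 1 := by
  have hp : p.Prime := Fact.out
  by_contra hcon
  push Not at hcon
  have h1 : Nat.card (P : Subgroup G) = 1 := by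
    rw [Nat.card_eq_one_iff_unique]
    refine ⟨⟨fun a b => ?_⟩, ⟨1⟩⟩
    apply Subtype.ext
    rw [hcon a a.2, hcon b b.2]
  have h2 : Nat.card (P : Subgroup G) = p := hP
  rw [h1] at h2
  exact hp.one_lt.ne' h2.symm

/-- A Sylow subgroup of prime order is abelian. -/
theorem s4441_comm {p : ℕ} [Fact p.Prime] (P : Sylow p G) (hP : Nat.card P = p) :
    ∀ a b : (P : Subgroup G), a * b = b * a := by
  obtain ⟨x, hx, hx1⟩ := s4441_exists_ne_one P hP
  obtain ⟨-, hgen⟩ := s4441_gen P hP x hx hx1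
  intro a b
  obtain ⟨i, hi⟩ := hgen a a.2
  obtain ⟨j, hj⟩ := hgen b b.2
  apply Subtype.ext
  rw [Subgroup.coe_mul, Subgroup.coe_mul, hi, hj, ← pow_add, ← pow_add, add_comm]

/-- The centralizer of a Sylow subgroup `P` of prime order is `P × K` for a `p'`-subgroup `K`. -/
theorem s4441_K {p : ℕ} [Fact p.Prime] (P : Sylow p G) (hP : Nat.card P = p) :
    ∃ K : Subgroup G, ¬ p ∣ Nat.card K ∧
      (∀ k ∈ K, k ∈ Subgroup.centralizer ((P : Subgroup G) : Set G)) ∧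
      (∀ k ∈ K, ¬ p ∣ orderOf k) ∧
      ∀ x ∈ (P : Subgroup G), x ≠ 1 → ∀ g : G,
        g * x = x * g ↔ ∃ i : ℕ, ∃ k ∈ K, g = x ^ i * k := by
  classical
  have hp : p.Prime := Fact.out
  have hcomm := s4441_comm P hP
  obtain ⟨C, hC⟩ : ∃ C : Subgroup G, C = Subgroup.centralizer ((P : Subgroup G) : Set G) :=
    ⟨_, rfl⟩
  have hPC : (P : Subgroup G) ≤ C := by
    intro a ha
    rw [hC, Subgroup.mem_centralizer_iff]
    intro b hb
    exact congrArg Subtype.val (hcomm ⟨b, hb⟩ ⟨a, ha⟩)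
  have hCcomm : ∀ c ∈ C, ∀ q ∈ (P : Subgroup G), q * c = c * q := by
    intro c hc q hq
    rw [hC] at hc
    exact Subgroup.mem_centralizer_iff.mp hc q hq
  have hP'mem : ∀ c : C, c ∈ ((P.subtype hPC : Sylow p C) : Subgroup C) ↔
      (c : G) ∈ (P : Subgroup G) := by
    intro c
    rw [Sylow.coe_subtype, Subgroup.mem_subgroupOf]
  have hN : Subgroup.normalizer (((P.subtype hPC : Sylow p C) : Subgroup C) : Set C) ≤
      Subgroup.centralizer (((P.subtype hPC : Sylow p C) : Subgroup C) : Set C) := by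
    intro c _
    rw [Subgroup.mem_centralizer_iff]
    intro q hq
    have hq' : (q : G) ∈ (P : Subgroup G) := (hP'mem q).mp hq
    apply Subtype.ext
    exact hCcomm (c : G) c.2 (q : G) hq'
  have hcompl := MonoidHom.ker_transferSylow_isComplement' (P.subtype hPC) hN
  have hnd := MonoidHom.not_dvd_card_ker_transferSylow (P.subtype hPC) hN
  obtain ⟨K', hK'⟩ : ∃ K' : Subgroup C, K' = (MonoidHom.transferSylow (P.subtype hPC) hN).ker :=
    ⟨_, rfl⟩
  rw [← hK'] at hcompl hnd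
  have hcardK : Nat.card (K'.map C.subtype) = Nat.card K' :=
    Subgroup.card_map_of_injective (Subgroup.subtype_injective C)
  refine ⟨K'.map C.subtype, ?_, ?_, ?_, ?_⟩
  · rw [hcardK]
    exact hnd
  · rintro k ⟨c, -, rfl⟩
    rw [← hC]
    exact c.2
  · intro k hk hdvd
    have h1 : orderOf (⟨k, hk⟩ : K'.map C.subtype) ∣ Nat.card (K'.map C.subtype) :=
      orderOf_dvd_natCard _
    have h2 : orderOf (⟨k, hk⟩ : K'.map C.subtype) = orderOf k := Subgroup.orderOf_mk _ _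
    rw [h2, hcardK] at h1
    exact hnd (hdvd.trans h1)
  · intro x hx hx1 g
    obtain ⟨hord, hgen⟩ := s4441_gen P hP x hx hx1
    constructor
    · intro hgx
      have hgC : g ∈ C := by
        rw [hC, Subgroup.mem_centralizer_iff]
        intro q hq
        obtain ⟨i, rfl⟩ := hgen q hq
        exact ((Commute.pow_right (show Commute g x from hgx) i).eq).symm
      obtain ⟨⟨k, q⟩, hkq⟩ := hcompl.2 ⟨g, hgC⟩
      have hkq' : ((k : C) : G) * ((q : C) : G) = g := by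
        have := congrArg Subtype.val hkq
        simpa using this
      have hqP : ((q : C) : G) ∈ (P : Subgroup G) := (hP'mem (q : C)).mp q.2
      obtain ⟨i, hi⟩ := hgen _ hqP
      refine ⟨i, ((k : C) : G), ⟨(k : C), k.2, rfl⟩, ?_⟩
      rw [← hkq', hi]
      have := hCcomm ((k : C) : G) (k : C).2 (x ^ i) ((P : Subgroup G).pow_mem hx i)
      exact this.symm
    · rintro ⟨i, k, ⟨c, -, rfl⟩, rfl⟩
      have h1 : x * (c : G) = (c : G) * x := hCcomm (c : G) c.2 x hx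
      have h2 : x ^ i * x = x * x ^ i := by rw [← pow_succ, ← pow_succ']
      show x ^ i * (c : G) * x = x * (x ^ i * (c : G))
      rw [mul_assoc, ← h1, ← mul_assoc, h2, mul_assoc]

/-- The modulus used in the lattice bound. -/
theorem s4441_M0 {p : ℕ} [Fact p.Prime] (P : Sylow p G) (hP : Nat.card P = p) :
    ∃ M₀ : ℕ, ¬ p ∣ M₀ ∧ Nat.card G ∣ p * M₀ ∧ Nat.card G ≤ M₀ ∧ M₀ ≠ 0 := by
  have hp : p.Prime := Fact.out
  have hidx : ¬ p ∣ (P : Subgroup G).index := P.not_dvd_index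
  have hcard : Nat.card G = p * (P : Subgroup G).index := by
    have h1 := (P : Subgroup G).card_mul_index
    have h2 : Nat.card (P : Subgroup G) = p := hP
    rw [h2] at h1
    exact h1.symm
  have hidx0 : (P : Subgroup G).index ≠ 0 := by
    intro h0
    rw [h0, mul_zero] at hcard
    exact Nat.card_pos.ne' hcard
  refine ⟨(P : Subgroup G).index * (p + 1), ?_, ?_, ?_, ?_⟩
  · intro h
    rcases (Nat.Prime.dvd_mul hp).mp h with h1 | h1
    · exact hidx h1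
    · have h2 : p ∣ 1 := (Nat.dvd_add_right (dvd_refl p)).mp h1
      exact hp.one_lt.ne' (Nat.dvd_one.mp h2)
  · rw [hcard, ← mul_assoc]
    exact dvd_mul_right _ _
  · rw [hcard]
    nlinarith [Nat.zero_le ((P : Subgroup G).index)]
  · exact mul_ne_zero hidx0 (Nat.succ_ne_zero p)

/-- Galois conjugation of irreducible characters. -/
noncomputable def galIrr (σ : ℂ ≃+* ℂ) (χ : Cfsg.IrrCharacter G) : Cfsg.IrrCharacter G :=
  ⟨fun g => σ ((χ : G → ℂ) g), Helper75.isIrrCharacter_ringEquiv σ χ.2⟩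

omit [Fintype G] in
theorem galIrr_apply (σ : ℂ ≃+* ℂ) (χ : Cfsg.IrrCharacter G) (g : G) :
    (galIrr σ χ : G → ℂ) g = σ ((χ : G → ℂ) g) := rfl

omit [Fintype G] in
theorem galIrr_symm_galIrr (σ : ℂ ≃+* ℂ) (χ : Cfsg.IrrCharacter G) :
    galIrr σ.symm (galIrr σ χ) = χ := by
  apply Subtype.ext
  funext g
  rw [galIrr_apply, galIrr_apply, RingEquiv.symm_apply_apply]

omit [Fintype G] in
theorem galIrr_galIrr_symm (σ : ℂ ≃+* ℂ) (χ : Cfsg.IrrCharacter G) :
    galIrr σ (galIrr σ.symm χ) = χ := by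
  apply Subtype.ext
  funext g
  rw [galIrr_apply, galIrr_apply, RingEquiv.apply_symm_apply]

omit [Fintype G] in
theorem galIrr_one (σ : ℂ ≃+* ℂ) (χ : Cfsg.IrrCharacter G) :
    (galIrr σ χ : G → ℂ) 1 = (χ : G → ℂ) 1 := by
  rw [galIrr_apply, Helper81.irr_one_eq_charDegree, map_natCast]

omit [Fintype G] in
theorem galIrr_charDegree (σ : ℂ ≃+* ℂ) (χ : Cfsg.IrrCharacter G) :
    Cfsg.charDegree (galIrr σ χ : G → ℂ) = Cfsg.charDegree (χ : G → ℂ) := by
  have h1 := galIrr_one σ χ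
  rw [Helper81.irr_one_eq_charDegree, Helper81.irr_one_eq_charDegree] at h1
  exact_mod_cast h1

/-- First consequence of the lattice bound: a character which is constant, with an integer value
`a`, on the `p`-section of a generator of `P` has `a ∈ {0, 1, -1}`. -/
theorem s4441_W1 {p : ℕ} [Fact p.Prime] (P : Sylow p G) (hP : Nat.card P = p)
    (hLB : Helper75.LatticeBoundStmt G p) (χ : Cfsg.IrrCharacter G) (a : ℤ) (x : G)
    (hx : x ∈ (P : Subgroup G)) (hx1 : x ≠ 1)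
    (hval : ∀ y : G, y ∈ Subgroup.centralizer ((P : Subgroup G) : Set G) → ¬ p ∣ orderOf y →
      (χ : G → ℂ) (x * y) = (a : ℂ)) : a = 0 ∨ a = 1 ∨ a = -1 := by
  classical
  have : Fintype (Cfsg.IrrCharacter G) := Fintype.ofFinite _
  obtain ⟨K, hKp, hKC, hKreg, hKx⟩ := s4441_K P hP
  obtain ⟨M₀, h1, h2, h3, -⟩ := s4441_M0 P hP
  obtain ⟨hord, -⟩ := s4441_gen P hP x hx hx1
  obtain ⟨𝒪, h𝒪⟩ : ∃ 𝒪 : Finset (Cfsg.IrrCharacter G), ∀ χ', χ' ∈ 𝒪 ↔ ∃ σ : ℂ ≃+* ℂ,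
      χ' = galIrr σ χ :=
    ⟨Finset.univ.filter (fun χ' => ∃ σ : ℂ ≃+* ℂ, χ' = galIrr σ χ), fun χ' => by simp⟩
  have hχ𝒪 : χ ∈ 𝒪 := (h𝒪 χ).mpr ⟨RingEquiv.refl ℂ, Subtype.ext (funext fun g => rfl)⟩
  have hstab : ∀ χ' ∈ 𝒪, ∀ σ : ℂ ≃+* ℂ, ∃ χ'' ∈ 𝒪, ∀ g : G,
      (χ'' : G → ℂ) g = σ ((χ' : G → ℂ) g) := by
    intro χ' hχ' σ
    obtain ⟨σ', rfl⟩ := (h𝒪 χ').mp hχ'
    refine ⟨galIrr σ (galIrr σ' χ), (h𝒪 _).mpr ⟨σ'.trans σ, ?_⟩, fun g => rfl⟩
    apply Subtype.ext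
    funext g
    rfl
  have hrep : ∀ χ' ∈ 𝒪, ∃ χ₀ ∈ 𝒪, ∃ τ : ℂ ≃+* ℂ, (∀ w : ℂ, w ^ M₀ = 1 → τ w = w) ∧
      ∀ g : G, (χ' : G → ℂ) g = τ ((χ₀ : G → ℂ) g) :=
    fun χ' hχ' => ⟨χ', hχ', RingEquiv.refl ℂ, fun w _ => rfl, fun g => rfl⟩
  have key := hLB x K 𝒪 𝒪 M₀ hord hKp (hKx x hx hx1) hstab h1 h2 h3 hrep
  have hdeg : ∀ χ' ∈ 𝒪, Cfsg.charDegree (χ' : G → ℂ) = Cfsg.charDegree (χ : G → ℂ) := by
    intro χ' hχ'
    obtain ⟨σ, rfl⟩ := (h𝒪 χ').mp hχ'
    exact galIrr_charDegree σ χ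
  have hterm : ∀ χ' ∈ 𝒪, ∑ k : K, (χ' : G → ℂ) 1 * (χ' : G → ℂ) (x * (k : G))
      = (Nat.card K : ℂ) * ((Cfsg.charDegree (χ : G → ℂ) : ℂ) * (a : ℂ)) := by
    intro χ' hχ'
    obtain ⟨σ, rfl⟩ := (h𝒪 χ').mp hχ'
    have e1 : ∀ k : K, (galIrr σ χ : G → ℂ) 1 * (galIrr σ χ : G → ℂ) (x * (k : G))
        = (Cfsg.charDegree (χ : G → ℂ) : ℂ) * (a : ℂ) := by
      intro k
      rw [galIrr_one, Helper81.irr_one_eq_charDegree, galIrr_apply,
        hval (k : G) (hKC _ k.2) (hKreg _ k.2), map_intCast]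
    rw [Finset.sum_congr rfl (fun k _ => e1 k), Finset.sum_const, Finset.card_univ,
      nsmul_eq_mul, Nat.card_eq_fintype_card]
  rw [Finset.sum_congr rfl hterm, Finset.sum_const, nsmul_eq_mul] at key
  have hR : ∑ χ' ∈ 𝒪, (Cfsg.charDegree (χ' : G → ℂ) : ℝ)
      = (𝒪.card : ℝ) * (Cfsg.charDegree (χ : G → ℂ) : ℝ) := by
    rw [Finset.sum_congr rfl (fun χ' hχ' => by rw [hdeg χ' hχ']), Finset.sum_const, nsmul_eq_mul]
  rw [hR] at key
  have hpos1 : (0 : ℝ) < (𝒪.card : ℝ) := by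
    exact_mod_cast Finset.card_pos.mpr ⟨χ, hχ𝒪⟩
  have hpos2 : (0 : ℝ) < (Nat.card K : ℝ) := by
    exact_mod_cast Nat.card_pos
  have hpos3 : (0 : ℝ) < (Cfsg.charDegree (χ : G → ℂ) : ℝ) := by
    exact_mod_cast Helper81.charDegree_pos χ
  have hnorm : ‖(𝒪.card : ℂ) * ((Nat.card K : ℂ) * ((Cfsg.charDegree (χ : G → ℂ) : ℂ) * (a : ℂ)))‖
      = (𝒪.card : ℝ) * ((Nat.card K : ℝ) * ((Cfsg.charDegree (χ : G → ℂ) : ℝ) * |(a : ℝ)|)) := by
    rw [norm_mul, norm_mul, norm_mul, Complex.norm_natCast, Complex.norm_natCast,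
      Complex.norm_natCast, Complex.norm_intCast]
  rw [hnorm] at key
  have habs : |(a : ℝ)| ≤ 1 := by
    by_contra hcon
    push Not at hcon
    have h4 : (0 : ℝ) < (𝒪.card : ℝ) * ((Nat.card K : ℝ) * (Cfsg.charDegree (χ : G → ℂ) : ℝ)) :=
      mul_pos hpos1 (mul_pos hpos2 hpos3)
    nlinarith
  have h5 := abs_le.mp habs
  have h6 : (-1 : ℤ) ≤ a := by exact_mod_cast h5.1
  have h7 : a ≤ (1 : ℤ) := by exact_mod_cast h5.2
  omega

end Cfsg.Agent.Helper79
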