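import Mathlib
import Cfsg.Prelude.Def_Characters
import Cfsg.Prelude.Def_Blocks
import Cfsg.Prelude.Def_Local
import Cfsg.Prelude.Def_Solvable
import Cfsg.Agent.Helper79.Basic
import Cfsg.Agent.Helper79.Quotient
import Cfsg.Agent.Helper79.Codegree
import Cfsg.Agent.Helper79.Linear
import Cfsg.Agent.Helper75.CliffordCorr
import Cfsg.Agent.Helper75.Ito
import Cfsg.Agent.Helper3.IndFun
import Cfsg.Agent.Helper3.Induced
import Cfsg.Agent.Helper3.CharBasic
import Cfsg.Agent.Helper3.BrauerPerm2
import Cfsg.Agent.Helper80.CharOrtho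
import Cfsg.Agent.Helper15.RamGen
import Cfsg.Agent.Helper68.PComp
import Cfsg.Agent.Helper76.PSolvable
import Cfsg.Agent.Helper32.PSolvable

/-!
# The Itô–Michler theorem for `p`-solvable groups (helper79)

* `PPrimeDeg p G`: every irreducible character of `G` has degree prime to `p`.
* `exists_irr_over_normal`: every irreducible character of a subgroup lies under an irreducible
  character of the group.
* `PPrimeDeg.quotient`, `PPrimeDeg.normal`, `comm_of_isPGroup_of_pPrimeDeg`.
* `invariant_of_pPrimeDeg`: if `G/K` is a `p`-group and `PPrimeDeg p G`, every irreducible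
  character of `K` is `G`-invariant.
* `isConj_conjNormal_of_invariant`: then every `g` fixes every conjugacy class of `K`
  (Brauer's permutation lemma).
* `commute_of_pPrimeDeg`: and if `|K|` is prime to `p`, every `p`-element centralizes `K`.
* `ito_michler_pSolvable`: a `p`-solvable group all of whose irreducible characters have degree
  prime to `p` has a normal abelian Sylow `p`-subgroup; `pPrimeDeg_of_hasNormalAbelianSylow` is
  the converse (Itô, no solvability needed).
* `normal_abelian_sylow_of_pPrimeDeg`: abstract induction (a class `Q` of groups closed under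
  quotients and subgroups whose nontrivial members have a nontrivial normal `p`- or
  `p'`-subgroup): `Q G` and `PPrimeDeg p G` give a normal abelian Sylow `p`-subgroup.
-/

set_option autoImplicit false

namespace Cfsg.Agent.Helper79

open Cfsg
open scoped commutatorElement

universe u

/-- Every irreducible character has degree prime to `p`. -/
def PPrimeDeg (p : ℕ) (G : Type*) [Group G] : Prop :=
  ∀ χ : G → ℂ, IsIrrCharacter G χ → ¬ p ∣ charDegree χ

/-- Every irreducible character of a subgroup lies under an irreducible character of `G`. -/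
theorem exists_irr_over_normal {G : Type*} [Group G] [Fintype G] (N : Subgroup G) [Fintype N]
    {θ : N → ℂ} (hθ : IsIrrCharacter N θ) :
    ∃ χ : G → ℂ, IsIrrCharacter G χ ∧ classInner (fun n : N => χ n) θ ≠ 0 := by
  have hθc := isCharacter_of_irr hθ
  have hΦ : IsCharacter G (indFun N θ) := Helper3.isCharacter_indFun N θ hθc
  have h1 : indFun N θ 1 ≠ 0 := by
    rw [Helper75.indFun_one]
    have hG : (Nat.card G : ℂ) ≠ 0 := by exact_mod_cast (Nat.card_pos (α := G)).ne'
    have hN : (Nat.card N : ℂ) ≠ 0 := by exact_mod_cast (Nat.card_pos (α := N)).ne'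
    exact mul_ne_zero (div_ne_zero hG hN) (Helper3.irr_apply_one_ne_zero hθ)
  obtain ⟨χ, hχ, hne⟩ := Helper75.exists_irr_constituent hΦ h1
  refine ⟨χ, hχ, ?_⟩
  rw [Helper3.frobenius_reciprocity N θ χ
    (isCharacter_isClassFunction (isCharacter_of_irr hχ))] at hne
  rw [Helper75.classInner_conj_symm]
  simpa using hne

theorem PPrimeDeg.quotient {p : ℕ} {G : Type*} [Group G] (h : PPrimeDeg p G) (N : Subgroup G)
    [N.Normal] : PPrimeDeg p (G ⧸ N) := by
  intro χ hχ
  have h1 := isIrrCharacter_comp (QuotientGroup.mk' N) (QuotientGroup.mk'_surjective N) hχ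
  have h2 := h _ h1
  have h3 : charDegree (fun x : G => χ (QuotientGroup.mk' N x)) = charDegree χ := by
    unfold charDegree
    simp
  rwa [h3] at h2

theorem PPrimeDeg.normal {p : ℕ} {G : Type*} [Group G] [Finite G] (h : PPrimeDeg p G)
    (N : Subgroup G) [N.Normal] : PPrimeDeg p N := by
  classical
  intro θ hθ hdvd
  have : Fintype G := Fintype.ofFinite G
  have : Fintype N := Fintype.ofFinite N
  obtain ⟨χ, hχ, hne⟩ := exists_irr_over_normal N hθ
  obtain ⟨k, hk, -⟩ := Helper15.degree_eq_mul_of_constituent N χ hχ θ hθ hne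
  rw [isCharacter_one_eq_charDegree (isCharacter_of_irr hχ),
    isCharacter_one_eq_charDegree (isCharacter_of_irr hθ)] at hk
  have h1 : charDegree χ = k * charDegree θ := by exact_mod_cast hk
  exact h χ hχ (h1 ▸ Dvd.dvd.mul_left hdvd k)

/-- A `p`-group all of whose irreducible characters have degree prime to `p` is abelian. -/
theorem comm_of_isPGroup_of_pPrimeDeg {p : ℕ} [Fact p.Prime] {Q : Type u} [Group Q] [Finite Q]
    (hQ : IsPGroup p Q) (h : PPrimeDeg p Q) : ∀ a b : Q, a * b = b * a := by
  by_contra hcon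
  have hc : commutator Q ≠ ⊥ := by
    intro h0
    apply hcon
    intro a b
    have h1 : ⁅a, b⁆ ∈ commutator Q :=
      Subgroup.commutator_mem_commutator (Subgroup.mem_top a) (Subgroup.mem_top b)
    rw [h0, Subgroup.mem_bot, commutatorElement_eq_one_iff_mul_comm] at h1
    exact h1
  obtain ⟨χ, hχ⟩ := exists_nonlinear_of_commutator_ne_bot hc
  exact h χ χ.2 ((irr_pgroup_dvd_degree_iff hQ χ).mpr hχ)

/-- If `G/K` is a `p`-group and all irreducible characters of `G` have `p'`-degree, then every
irreducible character of `K` is `G`-invariant. -/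
theorem invariant_of_pPrimeDeg {p : ℕ} [Fact p.Prime] {G : Type*} [Group G] [Finite G]
    (K : Subgroup G) [K.Normal] (hidx : ∃ a : ℕ, K.index = p ^ a) (h : PPrimeDeg p G)
    {θ : K → ℂ} (hθ : IsIrrCharacter K θ) (g : G) : Helper75.conjFun K g θ = θ := by
  classical
  have : Fintype G := Fintype.ofFinite G
  have : Fintype K := Fintype.ofFinite K
  obtain ⟨χ, hχ, hne⟩ := exists_irr_over_normal K hθ
  have hcl := Helper75.clifford_restrict K hχ hθ hne
  have h1 := congrFun hcl 1
  rw [Pi.smul_apply, Helper75.orbitSum_one, smul_eq_mul] at h1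
  set T : Subgroup G := Helper75.inertia K θ with hT
  have hTcard : Nat.card {g : G // Helper75.conjFun K g θ = θ} = Nat.card T := rfl
  rw [hTcard] at h1
  obtain ⟨m, hm⟩ := Helper3.classInner_isCharacter_nat
    (isCharacter_restrict (isCharacter_of_irr hχ) K) (isCharacter_of_irr hθ)
  rw [hm] at h1
  have hχ1 : χ ((1 : K) : G) = (charDegree χ : ℂ) := by
    rw [Subgroup.coe_one]; exact isCharacter_one_eq_charDegree (isCharacter_of_irr hχ)
  rw [hχ1, isCharacter_one_eq_charDegree (isCharacter_of_irr hθ)] at h1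
  have hT0 : (Nat.card T : ℂ) ≠ 0 := by exact_mod_cast (Nat.card_pos (α := T)).ne'
  have h2 : (Nat.card G : ℂ) / (Nat.card T : ℂ) = (T.index : ℂ) := by
    rw [← Subgroup.index_mul_card T]; push_cast; field_simp
  rw [h2] at h1
  have h3 : charDegree χ = m * (T.index * charDegree θ) := by exact_mod_cast h1
  have h4 : T.index ∣ charDegree χ := ⟨m * charDegree θ, by rw [h3]; ring⟩
  have hKT : K ≤ T := Helper75.le_inertia K θ (isCharacter_isClassFunction (isCharacter_of_irr hθ))
  obtain ⟨a, ha⟩ := hidx
  have h5 : T.index ∣ p ^ a := ha ▸ Subgroup.index_dvd_of_le hKT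
  obtain ⟨b, -, hb⟩ := (Nat.dvd_prime_pow Fact.out).mp h5
  have hb0 : b = 0 := by
    by_contra hb0
    exact h χ hχ (dvd_trans (hb ▸ dvd_pow_self p hb0) h4)
  rw [hb0, pow_zero] at hb
  have hTtop : T = ⊤ := Subgroup.index_eq_one.mp hb
  have hg : g ∈ T := hTtop ▸ Subgroup.mem_top g
  exact (Helper75.mem_inertia K θ g).mp hg

/-- If `g` fixes every irreducible character of the normal subgroup `K`, then conjugation by `g`
fixes every conjugacy class of `K` (Brauer's permutation lemma). -/
theorem isConj_conjNormal_of_invariant {G : Type*} [Group G] (K : Subgroup G) [K.Normal]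
    [Finite K] (g : G)
    (hinv : ∀ θ : K → ℂ, IsIrrCharacter K θ → Helper75.conjFun K g θ = θ) (n : K) :
    IsConj (MulAut.conjNormal g n : K) n := by
  classical
  have : Fintype K := Fintype.ofFinite K
  have hcard := Helper3.card_fixed_classes_eq (MulAut.conjNormal g : K ≃* K)
  have h1 : Nat.card {χ : IrrCharacter K //
      (χ : K → ℂ) ∘ (MulAut.conjNormal g : K ≃* K) = (χ : K → ℂ)} = Nat.card (IrrCharacter K) := by
    apply Nat.card_congr
    exact Equiv.subtypeUnivEquiv (fun χ => by
      have h2 := hinv χ.1 χ.2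
      rw [Helper75.conjFun_eq_comp] at h2
      exact h2)
  have h2 : Nat.card (IrrCharacter K) = Nat.card (ConjClasses K) := by
    have : Fintype (IrrCharacter K) := Fintype.ofFinite _
    rw [Nat.card_eq_fintype_card]
    convert Helper80.card_irr_eq_card_conjClasses (G := K)
  rw [h1, h2] at hcard
  have hall : ∀ C : ConjClasses K,
      ConjClasses.map (MulAut.conjNormal g : K ≃* K).toMonoidHom C = C := by
    by_contra hcon
    push Not at hcon
    obtain ⟨C, hC⟩ := hcon
    exact absurd hcard (Finite.card_subtype_lt (p := fun C : ConjClasses K =>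
      ConjClasses.map (MulAut.conjNormal g : K ≃* K).toMonoidHom C = C) hC).ne
  have h3 := hall (ConjClasses.mk n)
  exact ConjClasses.mk_eq_mk_iff_isConj.mp h3

/-- An automorphism of `p`-power order of a `p'`-group which fixes every conjugacy class has a
fixed point in every class. -/
theorem exists_conj_fixed {K : Type*} [Group K] [Finite K] (p : ℕ) [Fact p.Prime]
    (hK : (Nat.card K).Coprime p) (α : K ≃* K) (j : ℕ) (hα : α ^ p ^ j = 1)
    (hcl : ∀ n : K, IsConj (α n) n) (n : K) : ∃ m : K, IsConj m n ∧ α m = m := by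
  classical
  have : Fintype K := Fintype.ofFinite K
  have hp : ∀ m : K, IsConj (α.toEquiv m) n ↔ IsConj m n := fun m =>
    ⟨fun h => (hcl m).symm.trans h, fun h => (hcl m).trans h⟩
  let σ : Equiv.Perm {m : K // IsConj m n} := Equiv.Perm.subtypePerm (α.toEquiv : Equiv.Perm K) hp
  have hσ : σ ^ p ^ j = 1 := by
    ext ⟨m, hm⟩
    show (((Equiv.Perm.subtypePerm (α.toEquiv : Equiv.Perm K) hp ^ p ^ j)
      (⟨m, hm⟩ : {m : K // IsConj m n})).1 : K) = m
    rw [Equiv.Perm.subtypePerm_pow, Equiv.Perm.subtypePerm_apply]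
    have h1 : ((α.toEquiv : Equiv.Perm K) ^ p ^ j) m = (α ^ p ^ j) m := by
      generalize p ^ j = k
      induction k with
      | zero => rfl
      | succ k ih => rw [pow_succ', pow_succ', Equiv.Perm.mul_apply, ih]; rfl
    show ((α.toEquiv : Equiv.Perm K) ^ p ^ j) m = m
    rw [h1, hα]; rfl
  have hcard : ¬ p ∣ Fintype.card {m : K // IsConj m n} := by
    have h1 : Nat.card {m : K // IsConj m n} ∣ Nat.card K := by
      have h2 : Nat.card {m : K // IsConj m n} = (MulAction.orbit (ConjAct K) n).ncard := by
        rw [← Nat.card_coe_set_eq]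
        apply Nat.card_congr
        exact Equiv.subtypeEquivRight (fun m => ConjAct.mem_orbit_conjAct.symm)
      rw [h2, ← MulAction.index_stabilizer]
      have h3 := Subgroup.index_dvd_card (MulAction.stabilizer (ConjAct K) n)
      rwa [Nat.card_congr (ConjAct.toConjAct (G := K)).toEquiv.symm] at h3
    intro h
    rw [← Nat.card_eq_fintype_card] at h
    have h2 : p ∣ Nat.gcd (Nat.card K) p := Nat.dvd_gcd (dvd_trans h h1) dvd_rfl
    rw [hK] at h2
    exact (Fact.out : p.Prime).one_lt.ne' (Nat.dvd_one.mp h2)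
  obtain ⟨⟨m, hm⟩, hfix⟩ := Equiv.Perm.exists_fixed_point_of_prime hcard hσ
  have h5 : α m = m := congrArg Subtype.val hfix
  exact ⟨m, hm, h5⟩

/-- If `K` is a normal `p'`-subgroup with `G/K` a `p`-group and all irreducible characters of `G`
have `p'`-degree, then every `p`-element of `G` centralizes `K`. -/
theorem commute_of_pPrimeDeg {p : ℕ} [Fact p.Prime] {G : Type*} [Group G] [Finite G]
    (K : Subgroup G) [K.Normal] (hK : (Nat.card K).Coprime p) (hidx : ∃ a : ℕ, K.index = p ^ a)
    (h : PPrimeDeg p G) (x : G) (j : ℕ) (hx : x ^ p ^ j = 1) :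
    ∀ n ∈ K, x * n * x⁻¹ = n := by
  classical
  set α : K ≃* K := MulAut.conjNormal x with hα
  have hαpow : α ^ p ^ j = 1 := by
    rw [hα, ← map_pow, hx, map_one]
  have hcl : ∀ n : K, IsConj (α n) n := fun n =>
    isConj_conjNormal_of_invariant K x (fun θ hθ => invariant_of_pPrimeDeg K hidx h hθ x) n
  let C : Subgroup K :=
    { carrier := {m | α m = m}
      mul_mem' := fun {a b} ha hb => by
        show α (a * b) = a * b
        rw [map_mul, show α a = a from ha, show α b = b from hb]
      one_mem' := map_one α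
      inv_mem' := fun {a} ha => by
        show α a⁻¹ = a⁻¹
        rw [map_inv, show α a = a from ha] }
  have hC : C = ⊤ := by
    apply Helper68.eq_top_of_forall_conj_mem
    intro n
    obtain ⟨m, hm, hfix⟩ := exists_conj_fixed p hK α j hαpow hcl n
    obtain ⟨c, hc⟩ := isConj_iff.mp hm.symm
    refine ⟨c⁻¹, ?_⟩
    rw [inv_inv, hc]
    exact hfix
  intro n hn
  have h1 : (⟨n, hn⟩ : K) ∈ C := hC ▸ Subgroup.mem_top _
  have h2 : α ⟨n, hn⟩ = ⟨n, hn⟩ := h1
  have h3 := congrArg Subtype.val h2
  simpa [hα] using h3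

/-- `G` has a normal abelian Sylow `p`-subgroup. -/
def HasNormalAbelianSylow (p : ℕ) (G : Type*) [Group G] : Prop :=
  ∃ S : Subgroup G, S.Normal ∧ IsPGroup p S ∧ ¬ p ∣ S.index ∧ ∀ a ∈ S, ∀ b ∈ S, a * b = b * a

theorem card_quotient_lt {G : Type*} [Group G] [Finite G] (R : Subgroup G) (hR : R ≠ ⊥) :
    Nat.card (G ⧸ R) < Nat.card G := by
  rw [← Subgroup.index_eq_card, ← Subgroup.index_mul_card R]
  have h1 : 1 < Nat.card R := R.one_lt_card_iff_ne_bot.mpr hR
  have h2 : 0 < R.index := Nat.pos_of_ne_zero Subgroup.index_ne_zero_of_finite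
  exact lt_mul_of_one_lt_right h2 h1

/-- Abstract Itô–Michler induction: let `Q` be a class of groups closed under quotients and
subgroups whose nontrivial finite members have a nontrivial normal subgroup that is a `p`-group
or a `p'`-group. If `Q G` and every irreducible character of `G` has degree prime to `p`, then
`G` has a normal abelian Sylow `p`-subgroup. -/
theorem normal_abelian_sylow_of_pPrimeDeg (p : ℕ) [Fact p.Prime]
    (Q : ∀ (H : Type u) [Group H], Prop)
    (hquot : ∀ (H : Type u) [Group H] (N : Subgroup H) [N.Normal], Q H → Q (H ⧸ N))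
    (hsub : ∀ (H : Type u) [Group H] (M : Subgroup H), Q H → Q M)
    (hstep : ∀ (H : Type u) [Group H] [Finite H], Q H → Nontrivial H →
      ∃ D : Subgroup H, D.Normal ∧ D ≠ ⊥ ∧ (IsPGroup p D ∨ (Nat.card D).Coprime p)) :
    ∀ (n : ℕ) (G : Type u) [Group G] [Finite G], Nat.card G = n → Q G → PPrimeDeg p G →
      HasNormalAbelianSylow p G := by
  intro n
  induction n using Nat.strong_induction_on with
  | _ n ih =>
    intro G _ _ hn hQ hdeg
    classical
    by_cases hR : Cfsg.pCore p G ≠ ⊥
    · -- Case A: `O_p(G) ≠ 1`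
      have hRn : (Cfsg.pCore p G).Normal := Helper76.pCore_normal
      have hRp : IsPGroup p (Cfsg.pCore p G) := Helper76.pCore_isPGroup
      have hlt : Nat.card (G ⧸ Cfsg.pCore p G) < n := hn ▸ card_quotient_lt _ hR
      obtain ⟨S', hS'n, hS'p, hS'i, -⟩ := ih _ hlt (G ⧸ Cfsg.pCore p G) rfl
        (hquot G (Cfsg.pCore p G) hQ) (hdeg.quotient (Cfsg.pCore p G))
      have hSn : (S'.comap (QuotientGroup.mk' (Cfsg.pCore p G))).Normal := hS'n.comap _
      have hSp : IsPGroup p (S'.comap (QuotientGroup.mk' (Cfsg.pCore p G))) :=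
        hS'p.comap_of_ker_isPGroup _ (by rw [QuotientGroup.ker_mk']; exact hRp)
      refine ⟨S'.comap (QuotientGroup.mk' (Cfsg.pCore p G)), hSn, hSp, ?_, ?_⟩
      · rw [Subgroup.index_comap_of_surjective _ (QuotientGroup.mk'_surjective _)]
        exact hS'i
      · intro a ha b hb
        have hc := comm_of_isPGroup_of_pPrimeDeg hSp
          (hdeg.normal (S'.comap (QuotientGroup.mk' (Cfsg.pCore p G)))) ⟨a, ha⟩ ⟨b, hb⟩
        exact congrArg Subtype.val hc
    · -- Case B: `O_p(G) = 1`
      push Not at hR
      by_cases hpG : ¬ p ∣ Nat.card G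
      · exact ⟨⊥, inferInstance, IsPGroup.of_bot, by rwa [Subgroup.index_bot],
          fun a ha b hb => by rw [Subgroup.mem_bot.mp ha, Subgroup.mem_bot.mp hb]⟩
      push Not at hpG
      have hKn : (Cfsg.pPrimeCore p G).Normal := Helper76.pPrimeCore_normal
      have hKcop : (Nat.card (Cfsg.pPrimeCore p G)).Coprime p := Helper76.pPrimeCore_coprime
      have hKne : Cfsg.pPrimeCore p G ≠ ⊥ := by
        intro hK0
        have hnt : Nontrivial G := by
          rw [← Finite.one_lt_card_iff_nontrivial]
          have h2 := Nat.le_of_dvd Nat.card_pos hpG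
          have h3 := (Fact.out : p.Prime).one_lt
          omega
        obtain ⟨D, hDn, hD0, hD | hD⟩ := hstep G hQ hnt
        · exact hD0 (le_bot_iff.mp (hR ▸ Helper76.le_pCore D hDn hD))
        · exact hD0 (le_bot_iff.mp (hK0 ▸ Helper76.le_pPrimeCore D hDn hD))
      have hlt : Nat.card (G ⧸ Cfsg.pPrimeCore p G) < n := hn ▸ card_quotient_lt _ hKne
      obtain ⟨S', hS'n, hS'p, hS'i, hS'c⟩ := ih _ hlt (G ⧸ Cfsg.pPrimeCore p G) rfl
        (hquot G (Cfsg.pPrimeCore p G) hQ) (hdeg.quotient (Cfsg.pPrimeCore p G))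
      have hMn : (S'.comap (QuotientGroup.mk' (Cfsg.pPrimeCore p G))).Normal := hS'n.comap _
      have hMi : ¬ p ∣ (S'.comap (QuotientGroup.mk' (Cfsg.pPrimeCore p G))).index := by
        rw [Subgroup.index_comap_of_surjective _ (QuotientGroup.mk'_surjective _)]
        exact hS'i
      by_cases hMtop : S'.comap (QuotientGroup.mk' (Cfsg.pPrimeCore p G)) = ⊤
      · -- `G/K` is an abelian `p`-group
        have hS'top : S' = ⊤ := by
          rw [← Subgroup.map_comap_eq_self_of_surjective
            (QuotientGroup.mk'_surjective (Cfsg.pPrimeCore p G)) S', hMtop,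
            ← MonoidHom.range_eq_map]
          exact MonoidHom.range_eq_top.mpr (QuotientGroup.mk'_surjective _)
        have hidx : ∃ a : ℕ, (Cfsg.pPrimeCore p G).index = p ^ a := by
          have hq : IsPGroup p (G ⧸ Cfsg.pPrimeCore p G) := by
            intro q
            have hq' : q ∈ S' := hS'top ▸ Subgroup.mem_top q
            obtain ⟨k, hk⟩ := hS'p ⟨q, hq'⟩
            exact ⟨k, by simpa using congrArg Subtype.val hk⟩
          obtain ⟨a, ha⟩ := IsPGroup.iff_card.mp hq
          exact ⟨a, by rw [Subgroup.index_eq_card]; exact ha⟩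
        obtain ⟨P⟩ := (inferInstance : Nonempty (Sylow p G))
        have hcent : ∀ y ∈ (P : Subgroup G), ∀ k ∈ Cfsg.pPrimeCore p G, y * k * y⁻¹ = k := by
          intro y hy
          obtain ⟨j, hj⟩ := P.isPGroup' ⟨y, hy⟩
          have hj' : y ^ p ^ j = 1 := by simpa using congrArg Subtype.val hj
          exact commute_of_pPrimeDeg (Cfsg.pPrimeCore p G) hKcop hidx hdeg y j hj'
        refine ⟨P, ?_, P.isPGroup', P.not_dvd_index, ?_⟩
        · rw [← Subgroup.normalizer_eq_top_iff]
          have h1 : Cfsg.pPrimeCore p G ≤ Subgroup.normalizer ((P : Subgroup G) : Set G) := by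
            intro k hk
            rw [Subgroup.mem_normalizer_iff]
            intro y
            constructor
            · intro hy
              have h2 := hcent y hy k hk
              have e : k * y * k⁻¹ = y := by
                calc k * y * k⁻¹ = (y * k * y⁻¹) * y * k⁻¹ := by rw [h2]
                  _ = y := by group
              rw [e]; exact hy
            · intro hy
              have h2 := hcent _ hy k hk
              have h3 : k * y * k⁻¹ * k * (k * y * k⁻¹)⁻¹ = k * (y * k * y⁻¹) * k⁻¹ := by group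
              rw [h3] at h2
              have h4 : y * k * y⁻¹ = k := by
                calc y * k * y⁻¹ = k⁻¹ * (k * (y * k * y⁻¹) * k⁻¹) * k := by group
                  _ = k := by rw [h2]; group
              have e : y = k * y * k⁻¹ := by
                calc y = (y * k * y⁻¹) * y * k⁻¹ := by group
                  _ = k * y * k⁻¹ := by rw [h4]
              rw [e]; exact hy
          have h2 : Cfsg.pPrimeCore p G ⊔ (P : Subgroup G) ≤
              Subgroup.normalizer ((P : Subgroup G) : Set G) := sup_le h1 Subgroup.le_normalizer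
          have h3 : Cfsg.pPrimeCore p G ⊔ (P : Subgroup G) = ⊤ := by
            obtain ⟨a, ha⟩ := hidx
            have d1 : (Cfsg.pPrimeCore p G ⊔ (P : Subgroup G)).index ∣ p ^ a :=
              ha ▸ Subgroup.index_dvd_of_le le_sup_left
            have d2 : (Cfsg.pPrimeCore p G ⊔ (P : Subgroup G)).index ∣ (P : Subgroup G).index :=
              Subgroup.index_dvd_of_le le_sup_right
            obtain ⟨b, -, hb⟩ := (Nat.dvd_prime_pow Fact.out).mp d1
            have hb0 : b = 0 := by
              by_contra hb0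
              exact P.not_dvd_index (dvd_trans (hb ▸ dvd_pow_self p hb0) d2)
            rw [hb0, pow_zero] at hb
            exact Subgroup.index_eq_one.mp hb
          exact top_le_iff.mp (h3 ▸ h2)
        · intro a ha b hb
          have hab := hS'c (QuotientGroup.mk' (Cfsg.pPrimeCore p G) a)
            (hS'top ▸ Subgroup.mem_top _) (QuotientGroup.mk' (Cfsg.pPrimeCore p G) b)
            (hS'top ▸ Subgroup.mem_top _)
          have h1 : a * b * a⁻¹ * b⁻¹ ∈ Cfsg.pPrimeCore p G := by
            rw [← QuotientGroup.ker_mk' (Cfsg.pPrimeCore p G), MonoidHom.mem_ker]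
            rw [map_mul, map_mul, map_mul, map_inv, map_inv, hab]
            group
          have h2 : a * b * a⁻¹ * b⁻¹ ∈ (P : Subgroup G) :=
            mul_mem (mul_mem (mul_mem ha hb) (inv_mem ha)) (inv_mem hb)
          have h3 : Cfsg.pPrimeCore p G ⊓ (P : Subgroup G) = ⊥ := by
            obtain ⟨m, hm⟩ := IsPGroup.iff_card.mp P.isPGroup'
            have hcop : (Nat.card (Cfsg.pPrimeCore p G)).Coprime (Nat.card (P : Subgroup G)) := by
              rw [hm]; exact Nat.Coprime.pow_right m hKcop
            exact (Subgroup.disjoint_of_coprime_natCard hcop).eq_bot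
          have h4 : a * b * a⁻¹ * b⁻¹ ∈ Cfsg.pPrimeCore p G ⊓ (P : Subgroup G) :=
            Subgroup.mem_inf.mpr ⟨h1, h2⟩
          rw [h3, Subgroup.mem_bot] at h4
          calc a * b = (a * b * a⁻¹ * b⁻¹) * (b * a) := by group
            _ = b * a := by rw [h4, one_mul]
      · -- `M < G`
        have hltM : Nat.card (S'.comap (QuotientGroup.mk' (Cfsg.pPrimeCore p G))) < n :=
          hn ▸ lt_of_le_of_ne (Subgroup.card_le_card_group _)
            (fun h => hMtop (Subgroup.eq_top_of_card_eq _ h))
        obtain ⟨S₁, hS₁n, hS₁p, hS₁i, hS₁c⟩ := ih _ hltM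
          (S'.comap (QuotientGroup.mk' (Cfsg.pPrimeCore p G))) rfl
          (hsub G _ hQ) (hdeg.normal _)
        have hchar : S₁.Characteristic := by
          obtain ⟨P₁, hP₁⟩ : ∃ P₁ : Sylow p ↥(S'.comap (QuotientGroup.mk' (Cfsg.pPrimeCore p G))),
              (P₁ : Subgroup ↥(S'.comap (QuotientGroup.mk' (Cfsg.pPrimeCore p G)))) = S₁ :=
            ⟨hS₁p.toSylow hS₁i, IsPGroup.toSylow_coe hS₁p hS₁i⟩
          have hP₁n : (P₁ : Subgroup ↥(S'.comap (QuotientGroup.mk' (Cfsg.pPrimeCore p G)))).Normal := by
            rw [hP₁]; exact hS₁n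
          have h1 := Sylow.characteristic_of_normal P₁ hP₁n
          exact hP₁ ▸ h1
        refine ⟨S₁.map (Subgroup.subtype _), ConjAct.normal_of_characteristic_of_normal,
          hS₁p.map _, ?_, ?_⟩
        · rw [Subgroup.index_map_subtype]
          exact fun h => ((Nat.Prime.dvd_mul Fact.out).mp h).elim hS₁i hMi
        · rintro _ ⟨a, ha, rfl⟩ _ ⟨b, hb, rfl⟩
          exact congrArg Subtype.val (hS₁c a ha b hb)

/-- **Itô–Michler for `p`-solvable groups**: if no irreducible character degree of the
`p`-solvable group `G` is divisible by `p`, then `G` has a normal abelian Sylow `p`-subgroup. -/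
theorem ito_michler_pSolvable (p : ℕ) [Fact p.Prime] {G : Type u} [Group G] [Finite G]
    (hs : Cfsg.IsPSolvable p G) (hdeg : PPrimeDeg p G) : HasNormalAbelianSylow p G :=
  normal_abelian_sylow_of_pPrimeDeg p (fun H _ => Cfsg.IsPSolvable p H)
    (fun _ _ N _ h => Helper32.isPSolvable_quotient Fact.out h N)
    (fun _ _ M h => Helper32.isPSolvable_subgroup Fact.out h M)
    (fun H _ _ h _ => by
      obtain ⟨D, hDn, -, hD0, hD⟩ :=
        Helper32.exists_normal_le_of_isPSolvable Fact.out h (⊤ : Subgroup H) top_ne_bot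
      exact ⟨D, hDn, hD0, hD⟩)
    (Nat.card G) G rfl hs hdeg

/-- Itô: a normal abelian Sylow `p`-subgroup forces all irreducible character degrees to be prime
to `p`. -/
theorem pPrimeDeg_of_hasNormalAbelianSylow (p : ℕ) {G : Type u} [Group G] [Finite G]
    (h : HasNormalAbelianSylow p G) : PPrimeDeg p G := by
  obtain ⟨S, hSn, -, hSi, hSc⟩ := h
  intro χ hχ hdvd
  exact hSi (dvd_trans hdvd (Helper75.ito_character hχ S hSc))

/-- A normal Sylow subgroup is the only Sylow subgroup. -/
theorem sylow_coe_eq_of_normal {p : ℕ} [Fact p.Prime] {G : Type*} [Group G] [Finite G]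
    (P : Sylow p G) (S : Subgroup G) (hSn : S.Normal) (hSp : IsPGroup p S) (hSi : ¬ p ∣ S.index) :
    (P : Subgroup G) = S := by
  have hn : ((hSp.toSylow hSi : Sylow p G) : Subgroup G).Normal := by
    rw [IsPGroup.toSylow_coe]; exact hSn
  have := Sylow.unique_of_normal (hSp.toSylow hSi) hn
  have h1 : P = hSp.toSylow hSi := Subsingleton.elim _ _
  rw [h1, IsPGroup.toSylow_coe]

end Cfsg.Agent.Helper79
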