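import Mathlib
import Cfsg.Prelude.Def_Characters
import Cfsg.Prelude.Def_Blocks
import Cfsg.Prelude.Def_Solvable
import Cfsg.Agent.Helper79.ItoMichler
import Cfsg.Agent.Helper15.DetChar

/-!
# Characters of `p'`-degree over a normal abelian `p`-subgroup

* `indFun_irr_of_over`: Clifford correspondence, induction part: if `T` is the inertia group of
  `θ ∈ Irr(N)` and `ψ ∈ Irr(T)` lies over `θ`, then `ψ^G` is irreducible and lies over `θ`.
* `exists_hom_extension_of_scalar`: if a character `ψ` of `T` restricts to `N` as `ψ(1) f` for a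
  homomorphism `f : N →* ℂˣ` and `ψ(1)` is prime to `|N|`, then `f` extends to `T`
  (determinant trick).
* `mem_of_normal_of_not_dvd_index`: a normal subgroup of index prime to `p` contains every
  element of `p`-power order.
* `commutator_mem_of_pPrimeDeg_over`: let `N` be a nontrivial normal abelian `p`-subgroup of the
  `p`-solvable group `G` such that every irreducible character of `G` whose kernel does not
  contain `N` has degree prime to `p`; then `P/N` is abelian for every `p`-subgroup `P`.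
-/

set_option autoImplicit false

namespace Cfsg.Agent.Helper79

open Cfsg
open scoped commutatorElement

universe u

/-- Clifford correspondence, induction part. -/
theorem indFun_irr_of_over {G : Type*} [Group G] [Fintype G] {N T : Subgroup G} [hN : N.Normal]
    [Fintype N] [Fintype T] (hNT : N ≤ T) {θ : N → ℂ} (hθ : IsIrrCharacter N θ)
    (hT : ∀ g : G, g ∈ T ↔ Helper75.conjFun N g θ = θ)
    {ψ : T → ℂ} (hψ : IsIrrCharacter T ψ) (hf : classInner (Helper75.resTo hNT ψ) θ ≠ 0) :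
    IsIrrCharacter G (indFun T ψ) ∧ classInner (fun n : N => indFun T ψ n) θ ≠ 0 := by
  have hψc := isCharacter_of_irr hψ
  have hΦ : IsCharacter G (indFun T ψ) := Helper3.isCharacter_indFun T ψ hψc
  have h1 : indFun T ψ 1 ≠ 0 := by
    rw [Helper75.indFun_one]
    have hG : (Nat.card G : ℂ) ≠ 0 := by exact_mod_cast (Nat.card_pos (α := G)).ne'
    have hT' : (Nat.card T : ℂ) ≠ 0 := by exact_mod_cast (Nat.card_pos (α := T)).ne'
    exact mul_ne_zero (div_ne_zero hG hT') (Helper3.irr_apply_one_ne_zero hψ)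
  obtain ⟨χ, hχ, hne⟩ := Helper75.exists_irr_constituent hΦ h1
  rw [Helper3.frobenius_reciprocity T ψ χ
    (isCharacter_isClassFunction (isCharacter_of_irr hχ))] at hne
  have hc : classInner (fun t : T => χ t) ψ ≠ 0 := by
    rw [Helper75.classInner_conj_symm]
    simpa using hne
  obtain ⟨h2, h3⟩ := Helper75.clifford_correspondence hNT hθ hT hψ hχ hf hc
  rw [h2]
  exact ⟨hχ, by rw [h3]; exact hf⟩

/-- If a character `ψ` of `T` restricts to `N` as `ψ(1) f` for a homomorphism `f : N →* ℂˣ` and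
`ψ(1)` is prime to `|N|`, then `f` extends to `T`. -/
theorem exists_hom_extension_of_scalar {G : Type*} [Group G] {N T : Subgroup G} (hNT : N ≤ T)
    [Finite N] (f : N →* ℂˣ) {ψ : T → ℂ} (hψ : IsCharacter T ψ)
    (hres : ∀ n : N, ψ ⟨n, hNT n.2⟩ = ψ 1 * (f n : ℂ))
    (hcop : Nat.Coprime (charDegree ψ) (Nat.card N)) :
    ∃ μ : T →* ℂˣ, ∀ n : N, μ ⟨n, hNT n.2⟩ = f n := by
  classical
  obtain ⟨d, ρ, rfl⟩ := hψ
  have hd : charDegree ρ.character = d := by
    apply Helper75.charDegree_of_one_eq_nat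
    rw [Representation.char_one]
    simp
  rw [hd] at hcop
  have hfin : Module.finrank ℂ (Fin d → ℂ) = d := by simp
  have hfpow : ∀ n : N, (f n : ℂ) ^ Nat.card N = 1 := by
    intro n
    have h1 : f n ^ Nat.card N = 1 := by
      rw [← map_pow, pow_card_eq_one', map_one]
    have h2 := congrArg (fun u : ℂˣ => (u : ℂ)) h1
    simpa using h2
  have hscal : ∀ n : N, ρ ⟨n, hNT n.2⟩ = (f n : ℂ) • (1 : Module.End ℂ (Fin d → ℂ)) := by
    intro n
    have hfn : (f n : ℂ) ≠ 0 := (f n).ne_zero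
    have h1 : ((f n : ℂ)⁻¹ • ρ ⟨n, hNT n.2⟩ : Module.End ℂ (Fin d → ℂ)) = 1 := by
      apply end_eq_one_of_trace_eq _ (Nat.card N) Nat.card_pos.ne'
      · rw [smul_pow, ← map_pow]
        have h2 : (⟨(n : G), hNT n.2⟩ : T) ^ Nat.card N = 1 := by
          apply Subtype.ext
          have h3 : n ^ Nat.card N = 1 := pow_card_eq_one'
          show (n : G) ^ Nat.card N = 1
          rw [← Subgroup.coe_pow, h3, Subgroup.coe_one]
        rw [h2, map_one, inv_pow, hfpow n, inv_one, one_smul]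
      · rw [map_smul, smul_eq_mul, hfin]
        have h2 : LinearMap.trace ℂ (Fin d → ℂ) (ρ ⟨n, hNT n.2⟩) = ρ.character ⟨n, hNT n.2⟩ := rfl
        rw [h2, hres n, Representation.char_one, hfin]
        field_simp
    calc ρ ⟨n, hNT n.2⟩ = (f n : ℂ) • ((f n : ℂ)⁻¹ • ρ ⟨n, hNT n.2⟩) := by
          rw [smul_smul, mul_inv_cancel₀ hfn, one_smul]
      _ = (f n : ℂ) • (1 : Module.End ℂ (Fin d → ℂ)) := by rw [h1]
  have hdet : ∀ n : N, ((Helper15.detHom ρ ⟨n, hNT n.2⟩ : ℂˣ) : ℂ) = (f n : ℂ) ^ d := by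
    intro n
    rw [Helper15.detHom_coe, hscal n, LinearMap.det_smul, hfin]
    simp
  by_cases hN1 : Nat.card N = 1
  · refine ⟨1, fun n => ?_⟩
    have : Subsingleton N := (Nat.card_eq_one_iff_unique.mp hN1).1
    have h1 : n = 1 := Subsingleton.elim _ _
    rw [h1, map_one]
    rfl
  · have hN2 : 1 < Nat.card N := by
      have := Nat.card_pos (α := N)
      omega
    obtain ⟨m, -, hm⟩ := Nat.exists_mul_mod_eq_one_of_coprime hcop hN2
    refine ⟨(Helper15.detHom ρ) ^ m, fun n => ?_⟩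
    apply Units.ext
    rw [MonoidHom.pow_apply, Units.val_pow_eq_pow_val, hdet n, ← pow_mul]
    have h1 : d * m = Nat.card N * (d * m / Nat.card N) + 1 := by
      have := Nat.div_add_mod (d * m) (Nat.card N)
      rw [hm] at this
      exact this.symm
    rw [h1, pow_succ, pow_mul, hfpow n, one_pow, one_mul]

/-- A normal subgroup of index prime to `p` contains every element of `p`-power order. -/
theorem mem_of_normal_of_not_dvd_index {p : ℕ} [Fact p.Prime] {H : Type*} [Group H] [Finite H]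
    (S : Subgroup H) [hSn : S.Normal] (hSi : ¬ p ∣ S.index) {x : H} {k : ℕ}
    (hx : x ^ p ^ k = 1) : x ∈ S := by
  rw [← QuotientGroup.eq_one_iff (N := S), ← orderOf_eq_one_iff]
  have h1 : orderOf (x : H ⧸ S) ∣ p ^ k := by
    apply orderOf_dvd_of_pow_eq_one
    rw [← QuotientGroup.mk_pow, hx]
    rfl
  have h2 : orderOf (x : H ⧸ S) ∣ S.index := by
    rw [Subgroup.index_eq_card]
    exact orderOf_dvd_natCard _
  have hp : p.Prime := Fact.out
  have h3 : Nat.Coprime (p ^ k) S.index :=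
    Nat.Coprime.pow_left k ((Nat.Prime.coprime_iff_not_dvd hp).mpr hSi)
  exact Nat.eq_one_of_dvd_coprimes h3 h1 h2

/-- Let `N` be a nontrivial normal abelian `p`-subgroup of the `p`-solvable group `G` such that
every irreducible character of `G` whose kernel does not contain `N` has degree prime to `p`.
Then commutators of elements of any `p`-subgroup lie in `N`. -/
theorem commutator_mem_of_pPrimeDeg_over {p : ℕ} [Fact p.Prime] {G : Type u} [Group G] [Finite G]
    (hs : Cfsg.IsPSolvable p G) (N : Subgroup G) [hNn : N.Normal] (hNp : IsPGroup p N)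
    (hNc : ∀ a ∈ N, ∀ b ∈ N, a * b = b * a) (hN1 : N ≠ ⊥)
    (hdeg : ∀ χ : G → ℂ, IsIrrCharacter G χ → (∃ n ∈ N, χ n ≠ χ 1) → ¬ p ∣ charDegree χ)
    (Q : Subgroup G) (hQ : IsPGroup p Q) : ∀ a ∈ Q, ∀ b ∈ Q, ⁅a, b⁆ ∈ N := by
  classical
  have hp : p.Prime := Fact.out
  have : Fintype G := Fintype.ofFinite G
  have : Fintype N := Fintype.ofFinite N
  -- a nontrivial linear character of `N`
  obtain ⟨n₀, hn₀⟩ := (Subgroup.ne_bot_iff_exists_ne_one).mp hN1
  have hcomm : commutator N = ⊥ := by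
    rw [commutator_def, Subgroup.commutator_eq_bot_iff_le_centralizer]
    intro x _ y _
    exact Subtype.ext (hNc y y.2 x x.2)
  obtain ⟨f, hf⟩ := exists_hom_apply_ne_one (G := N) (g := n₀) (by
    rw [hcomm, Subgroup.mem_bot]; exact hn₀)
  set θ : N → ℂ := fun n => (f n : ℂ) with hθdef
  have hθ : IsIrrCharacter N θ := isIrrCharacter_of_hom f
  have hθc : IsCharacter N θ := isCharacter_of_irr hθ
  have hθne : (fun _ : N => (1 : ℂ)) ≠ θ := by
    intro h
    have h1 := congrFun h n₀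
    apply hf
    apply Units.ext
    exact h1.symm
  have hθ1 : θ 1 = 1 := by simp [hθdef]
  set T := Helper75.inertia N θ with hTdef
  have hNT : N ≤ T := Helper75.le_inertia N θ (isCharacter_isClassFunction hθc)
  have : Fintype T := Fintype.ofFinite T
  have hT : ∀ g : G, g ∈ T ↔ Helper75.conjFun N g θ = θ := fun g => Helper75.mem_inertia N θ g
  have hquot : (Nat.card G : ℂ) / (Nat.card T : ℂ) = (T.index : ℂ) := by
    have hTne : (Nat.card T : ℂ) ≠ 0 := by exact_mod_cast (Nat.card_pos (α := T)).ne'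
    rw [← Subgroup.index_mul_card T]
    push_cast
    field_simp
  -- every irreducible character of `T` over `θ` has `p'`-degree, and `p ∤ |G : T|`
  have key : ∀ ψ : T → ℂ, IsIrrCharacter T ψ → classInner (Helper75.resTo hNT ψ) θ ≠ 0 →
      ¬ p ∣ T.index ∧ ¬ p ∣ charDegree ψ := by
    intro ψ hψ hne
    obtain ⟨hχ, hχne⟩ := indFun_irr_of_over hNT hθ hT hψ hne
    have hker : ∃ n ∈ N, indFun T ψ n ≠ indFun T ψ 1 := by
      by_contra hcon
      push Not at hcon
      apply hχne
      have h1 : (fun n : N => indFun T ψ n) = (indFun T ψ 1) • (fun _ : N => (1 : ℂ)) := by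
        funext n
        rw [Pi.smul_apply, smul_eq_mul, mul_one]
        exact hcon n n.2
      rw [h1, Helper75.classInner_smul_left,
        Helper75.classInner_irr_of_ne isIrrCharacter_one hθ hθne, mul_zero]
    have h2 := hdeg _ hχ hker
    have h3 : charDegree (indFun T ψ) = T.index * charDegree ψ := by
      apply Helper75.charDegree_of_one_eq_nat
      rw [Helper75.indFun_one, hquot, isCharacter_one_eq_charDegree (isCharacter_of_irr hψ)]
      push_cast
      ring
    rw [h3] at h2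
    exact ⟨fun h => h2 (Dvd.dvd.mul_right h _), fun h => h2 (Dvd.dvd.mul_left h _)⟩
  -- some irreducible character of `T` over `θ`
  obtain ⟨χ₀, hχ₀, hχ₀ne⟩ := exists_irr_over_normal N hθ
  obtain ⟨ψ₀, hψ₀, -, hψ₀ne⟩ :=
    Helper75.exists_irr_over hNT hθc (isCharacter_of_irr hχ₀) hχ₀ne
  obtain ⟨hidx, hψ₀deg⟩ := key ψ₀ hψ₀ hψ₀ne
  -- `θ` extends to `T`
  have hres := Helper75.restrict_eq_smul_of_invariant hNT hψ₀ hθ (fun t ht => (hT t).mp ht) hψ₀ne
  have hres1 : classInner (Helper75.resTo hNT ψ₀) θ = ψ₀ 1 := by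
    have h1 := congrFun hres 1
    rw [Helper75.resTo_apply, Pi.smul_apply, hθ1, smul_eq_mul, mul_one] at h1
    rw [← h1]
    rfl
  obtain ⟨μ, hμ⟩ : ∃ μ : T →* ℂˣ, ∀ n : N, μ ⟨n, hNT n.2⟩ = f n := by
    apply exists_hom_extension_of_scalar hNT f (isCharacter_of_irr hψ₀)
    · intro n
      have h1 := congrFun hres n
      rw [Helper75.resTo_apply, Pi.smul_apply, hres1, smul_eq_mul] at h1
      exact h1
    · obtain ⟨k, hk⟩ := IsPGroup.iff_card.mp hNp
      rw [hk]
      exact Nat.Coprime.pow_right k (Nat.Coprime.symm ((Nat.Prime.coprime_iff_not_dvd hp).mpr hψ₀deg))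
  -- all irreducible characters of `T / N` have `p'`-degree
  have hNTn : (N.subgroupOf T).Normal := inferInstance
  have hpp : PPrimeDeg p (↥T ⧸ N.subgroupOf T) := by
    intro β hβ hdvd
    have h1 : IsIrrCharacter T (fun t => (μ t : ℂ) * β (QuotientGroup.mk' (N.subgroupOf T) t)) :=
      isIrrCharacter_twist μ
        (isIrrCharacter_comp (QuotientGroup.mk' (N.subgroupOf T))
          (QuotientGroup.mk'_surjective _) hβ)
    have h2 : Helper75.resTo hNT
        (fun t => (μ t : ℂ) * β (QuotientGroup.mk' (N.subgroupOf T) t)) = β 1 • θ := by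
      funext n
      rw [Helper75.resTo_apply, Pi.smul_apply, smul_eq_mul, hμ n]
      have h3 : QuotientGroup.mk' (N.subgroupOf T) ⟨(n : G), hNT n.2⟩ = 1 := by
        rw [QuotientGroup.mk'_apply, QuotientGroup.eq_one_iff, Subgroup.mem_subgroupOf]
        exact n.2
      rw [h3, mul_comm]
    have h3 : classInner (Helper75.resTo hNT
        (fun t => (μ t : ℂ) * β (QuotientGroup.mk' (N.subgroupOf T) t))) θ ≠ 0 := by
      rw [h2, Helper75.classInner_smul_left, Helper75.classInner_irr_self hθ, mul_one]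
      exact Helper3.irr_apply_one_ne_zero hβ
    have h4 := (key _ h1 h3).2
    have h5 : charDegree (fun t : T => (μ t : ℂ) * β (QuotientGroup.mk' (N.subgroupOf T) t)) =
        charDegree β := by
      unfold charDegree
      simp
    rw [h5] at h4
    exact h4 hdvd
  have hsT : Cfsg.IsPSolvable p (↥T ⧸ N.subgroupOf T) :=
    Helper32.isPSolvable_quotient hp (Helper32.isPSolvable_subgroup hp hs T) _
  obtain ⟨S, hSn, hSp, hSi, hSc⟩ := ito_michler_pSolvable p hsT hpp
  -- a conjugate of `Q` lies in `T`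
  have hfix : (MulAction.fixedPoints Q (G ⧸ T)).Nonempty := by
    apply hQ.nonempty_fixed_point_of_prime_not_dvd_card
    rw [← Subgroup.index_eq_card]
    exact hidx
  obtain ⟨x, hx⟩ := hfix
  obtain ⟨g, rfl⟩ := QuotientGroup.mk_surjective x
  have hconj : ∀ a ∈ Q, g⁻¹ * a * g ∈ T := by
    intro a ha
    have h1 := hx ⟨a, ha⟩
    have h2 : (⟨a, ha⟩ : Q) • (g : G ⧸ T) = ((a * g : G) : G ⧸ T) := rfl
    rw [h2, QuotientGroup.eq] at h1
    have h3 := T.inv_mem h1
    simpa [mul_assoc] using h3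
  have hpow : ∀ a ∈ Q, ∃ k : ℕ, a ^ p ^ k = 1 := by
    intro a ha
    obtain ⟨k, hk⟩ := hQ ⟨a, ha⟩
    exact ⟨k, by simpa using congrArg (fun x : Q => (x : G)) hk⟩
  have hmemS : ∀ a (ha : a ∈ Q),
      QuotientGroup.mk' (N.subgroupOf T) ⟨g⁻¹ * a * g, hconj a ha⟩ ∈ S := by
    intro a ha
    obtain ⟨k, hk⟩ := hpow a ha
    apply mem_of_normal_of_not_dvd_index S hSi (k := k)
    rw [← map_pow]
    have h1 : (⟨g⁻¹ * a * g, hconj a ha⟩ : T) ^ p ^ k = 1 := by
      apply Subtype.ext
      show (g⁻¹ * a * g) ^ p ^ k = 1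
      have h2 := conj_pow (a := g⁻¹) (b := a) (i := p ^ k)
      rw [inv_inv] at h2
      rw [h2, hk]
      simp
    rw [h1, map_one]
  intro a ha b hb
  have h1 := hSc _ (hmemS a ha) _ (hmemS b hb)
  rw [← map_mul, ← map_mul, QuotientGroup.mk'_apply, QuotientGroup.mk'_apply, QuotientGroup.eq,
    Subgroup.mem_subgroupOf] at h1
  have h2 : g⁻¹ * (b⁻¹ * a⁻¹ * b * a) * g ∈ N := by
    have h3 : (((⟨g⁻¹ * a * g, hconj a ha⟩ : T) * ⟨g⁻¹ * b * g, hconj b hb⟩)⁻¹ *
        ((⟨g⁻¹ * b * g, hconj b hb⟩ : T) * ⟨g⁻¹ * a * g, hconj a ha⟩) : T) =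
        ((g⁻¹ * (b⁻¹ * a⁻¹ * b * a) * g : G)) := by
      simp only [Subgroup.coe_mul, Subgroup.coe_inv]
      group
    rw [← h3]
    exact h1
  have h4 := hNn.conj_mem _ h2 g
  have h5 : g * (g⁻¹ * (b⁻¹ * a⁻¹ * b * a) * g) * g⁻¹ = b⁻¹ * a⁻¹ * b * a := by group
  rw [h5] at h4
  have h6 := hNn.conj_mem _ (N.inv_mem h4) (b * a)
  have h7 : b * a * (b⁻¹ * a⁻¹ * b * a)⁻¹ * (b * a)⁻¹ = ⁅a, b⁆ := by
    rw [commutatorElement_def]
    group
  rw [h7] at h6
  exact h6

end Cfsg.Agent.Helper79
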