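import Mathlib
import Cfsg.Agent.Helper41.BRR5
import Cfsg.Agent.Helper46.BRA1g

/-! Piece A1h of CALL S0996 (helper79, Brauer-Reynolds): the Sylow set-up for a perfect group `G`
with a Sylow `p`-subgroup of order `p`.  Adapted from helper46's `br_setup_perfect`. -/

set_option autoImplicit false

universe u

namespace Cfsg.Agent.Helper79

theorem brn_setup {G : Type u} [Group G] [Finite G] (hperf : commutator G = ⊤) (p : ℕ)
    [Fact p.Prime] (P : Sylow p G) (hP : Nat.card (P : Subgroup G) = p) :
    p ≠ 2 ∧ ∃ q n v : ℕ,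
      (Subgroup.centralizer ((P : Subgroup G) : Set G)).relIndex
        (Subgroup.normalizer ((P : Subgroup G) : Set G)) = q ∧
      2 ≤ q ∧ q ∣ p - 1 ∧ 1 ≤ n ∧ 1 ≤ v ∧ Nat.card (Sylow p G) = 1 + n * p ∧
      Nat.card (Subgroup.centralizer ((P : Subgroup G) : Set G)) = p * v ∧
      Nat.card G = p * q * v * (1 + n * p) := by
  have hp : p.Prime := Fact.out
  have hp2 : 2 ≤ p := hp.two_le
  have hk := hP
  have hsyl : Nat.card (Sylow p G) =
      (Subgroup.normalizer ((P : Subgroup G) : Set G)).index := P.card_eq_index_normalizer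
  have hmod : Nat.card (Sylow p G) ≡ 1 [MOD p] := card_sylow_modEq_one p G
  have hcyc : IsCyclic ↥(P : Subgroup G) := isCyclic_of_prime_card hk
  have hPC : (P : Subgroup G) ≤ Subgroup.centralizer ((P : Subgroup G) : Set G) := by
    obtain ⟨g, hg⟩ := hcyc.exists_generator
    intro x hx
    rw [Subgroup.mem_centralizer_iff]
    intro y hy
    obtain ⟨a, ha⟩ := Subgroup.mem_zpowers_iff.1 (hg ⟨x, hx⟩)
    obtain ⟨b, hb⟩ := Subgroup.mem_zpowers_iff.1 (hg ⟨y, hy⟩)
    have h1 : (⟨y, hy⟩ : ↥(P : Subgroup G)) * ⟨x, hx⟩ = ⟨x, hx⟩ * ⟨y, hy⟩ := by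
      rw [← ha, ← hb]
      exact Commute.zpow_zpow_self g b a
    exact congrArg Subtype.val h1
  have hCN : Subgroup.centralizer ((P : Subgroup G) : Set G) ≤
      Subgroup.normalizer ((P : Subgroup G) : Set G) := Subgroup.centralizer_le_normalizer _
  have hqdvd : (Subgroup.centralizer ((P : Subgroup G) : Set G)).relIndex
      (Subgroup.normalizer ((P : Subgroup G) : Set G)) ∣ p - 1 := by
    have key := Subgroup.card_dvd_of_injective _
      (QuotientGroup.kerLift_injective (P : Subgroup G).normalizerMonoidHom)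
    rw [Subgroup.normalizerMonoidHom_ker, ← Subgroup.index, ← Subgroup.relIndex] at key
    rw [IsCyclic.card_mulAut ↥(P : Subgroup G), hk, Nat.totient_prime hp] at key
    exact key
  have hq1 : (Subgroup.centralizer ((P : Subgroup G) : Set G)).relIndex
      (Subgroup.normalizer ((P : Subgroup G) : Set G)) ≠ 1 := by
    intro h
    have hNC : Subgroup.normalizer ((P : Subgroup G) : Set G) ≤
        Subgroup.centralizer ((P : Subgroup G) : Set G) := Subgroup.relIndex_eq_one.1 h
    have hcompl := MonoidHom.ker_transferSylow_isComplement' P hNC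
    have hcard := hcompl.card_mul_card
    have h1 : (MonoidHom.transferSylow P hNC).ker = ⊤ := by
      rw [eq_top_iff, ← hperf, commutator_def, Subgroup.commutator_le]
      intro g₁ _ g₂ _
      rw [MonoidHom.mem_ker, map_commutatorElement, commutatorElement_eq_one_iff_commute]
      apply Subtype.ext
      have h3 := hPC (MonoidHom.transferSylow P hNC g₁).2
      rw [Subgroup.mem_centralizer_iff] at h3
      exact (h3 _ (MonoidHom.transferSylow P hNC g₂).2).symm
    rw [h1, Subgroup.card_top, hk] at hcard
    have hGpos : 0 < Nat.card G := Nat.card_pos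
    nlinarith
  -- the Sylow subgroup is not normal
  have hne1 : Nat.card (Sylow p G) ≠ 1 := by
    rw [hsyl]
    intro h
    have htop : Subgroup.normalizer ((P : Subgroup G) : Set G) = ⊤ := Subgroup.index_eq_one.1 h
    have hPn : (P : Subgroup G).Normal := Subgroup.normalizer_eq_top_iff.1 htop
    apply hq1
    rw [Subgroup.relIndex_eq_one]
    intro g _
    rw [Subgroup.mem_centralizer_iff]
    intro x hx
    have h2 := Helper41.central_of_normal_cyclic_of_perfect hperf (P : Subgroup G) g x hx
    exact (mul_inv_eq_iff_eq_mul.mp h2).symm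
  obtain ⟨n, hn1, hn⟩ := Helper46.br_arith_syl_g _ p hp2 hmod hne1
  have hq0 : (Subgroup.centralizer ((P : Subgroup G) : Set G)).relIndex
      (Subgroup.normalizer ((P : Subgroup G) : Set G)) ≠ 0 := by
    intro h
    have hfin : (Subgroup.centralizer ((P : Subgroup G) : Set G)).relIndex
      (Subgroup.normalizer ((P : Subgroup G) : Set G)) ≠ 0 := by
      unfold Subgroup.relIndex
      exact Subgroup.index_ne_zero_of_finite
    exact hfin h
  have hq2 : 2 ≤ (Subgroup.centralizer ((P : Subgroup G) : Set G)).relIndex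
      (Subgroup.normalizer ((P : Subgroup G) : Set G)) := by omega
  have hpne2 : p ≠ 2 := by
    intro h2
    have h4 := Nat.le_of_dvd (by omega) hqdvd
    omega
  obtain ⟨v, hv⟩ : p ∣ Nat.card ↥(Subgroup.centralizer ((P : Subgroup G) : Set G)) := by
    have h1 := Subgroup.card_dvd_of_le hPC
    rw [hk] at h1
    exact h1
  have hv1 : 1 ≤ v := by
    have hpos : 0 < Nat.card ↥(Subgroup.centralizer ((P : Subgroup G) : Set G)) := Nat.card_pos
    rw [hv] at hpos
    by_contra hcon
    have : v = 0 := by omega
    rw [this] at hpos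
    simp at hpos
  have hcard : Nat.card G = p * (Subgroup.centralizer ((P : Subgroup G) : Set G)).relIndex
      (Subgroup.normalizer ((P : Subgroup G) : Set G)) * v * (1 + n * p) := by
    have h1 := Subgroup.relIndex_mul_index hCN
    have h2 := Subgroup.card_mul_index (Subgroup.centralizer ((P : Subgroup G) : Set G))
    rw [← h1, ← hsyl, hn, hv] at h2
    rw [← h2]; ring
  exact ⟨hpne2, _, n, v, rfl, hq2, hqdvd, hn1, hv1, hn, hv, hcard⟩

end Cfsg.Agent.Helper79
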