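import Mathlib
import Cfsg.Agent.Helper16.NGDefs
import Cfsg.Agent.Helper16.NGP6A
import Cfsg.Agent.Helper79.NGP6Cof

/-!
# S4404, piece P6C (helper79), verbatim statement `ng_p6`
(from `NGP6Cof.ng_p6_of_p6a` and helper16's P6A).
-/

set_option autoImplicit false

namespace Cfsg.Agent.Helper79.NGP6Cv
open Cfsg.Agent.Helper16.NG

variable {S : Type*} [Group S]

/-- P6C -/
theorem ng_p6 [Finite S] {M V : Subgroup S} {x : S} (h : Cfg M V x) (p : ℕ) (hp : p.Prime) (hp5 : 5 ≤ p)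
    (P : Subgroup S) (hP : IsPGroup p ↥P) (hxP : ∀ a ∈ P, x * a * x⁻¹ ∈ P) :
    (P ⊓ Subgroup.centralizer (V : Set S)).relIndex P ≤ 7 :=
  Cfsg.Agent.Helper79.NGP6Cof.ng_p6_of_p6a h
    (fun p hp hp5 P hP hxP g hg => Cfsg.Agent.Helper16.NGP6A.ng_p6a h p hp hp5 P hP hxP g hg)
    p hp hp5 P hP hxP

end Cfsg.Agent.Helper79.NGP6Cv
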