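import Mathlib
import Cfsg.Prelude.Def_Characters
import Cfsg.Prelude.Def_Blocks
import Cfsg.Agent.Helper79.ItoMichler
import Cfsg.Agent.Helper79.Codegree
import Cfsg.Agent.Helper3.Burnside2
import Cfsg.Agent.Helper76.BlichC

/-!
# Groups whose nonlinear irreducible characters have prime degree are solvable (helper79)

Isaacs–Passman.  Reduction to a nonabelian simple group `S` (inflation and Clifford), where:
* `2` is not a degree (the determinant of a degree-two representation is trivial, so an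
  involution acts as a scalar);
* with `d₁ ≥ 3` the least nonlinear degree, Blichfeldt (`Helper76.blich_hall`) gives an abelian
  Hall subgroup `A` for the primes `> d₁ + 1`; every other nonlinear degree `d` is a prime
  `> d₁ + 1`, and characters of such degree vanish on `A ∖ 1` (Burnside);
* the second orthogonality relation `∑ χ(1) χ(x) = 0` at a suitable `x ≠ 1` then makes `1 / d₁`
  an algebraic integer.

Everything is in `namespace Cfsg.Agent.Helper79`.
-/

set_option autoImplicit false

namespace Cfsg.Agent.Helper79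

open Cfsg
open scoped commutatorElement

universe u

/-- Every nonlinear irreducible character has prime degree. -/
def PrimeNonlinDeg (G : Type*) [Group G] : Prop :=
  ∀ χ : G → ℂ, IsIrrCharacter G χ → charDegree χ ≠ 1 → (charDegree χ).Prime

theorem PrimeNonlinDeg.quotient {G : Type*} [Group G] (h : PrimeNonlinDeg G) (N : Subgroup G)
    [N.Normal] : PrimeNonlinDeg (G ⧸ N) := by
  intro χ hχ hne
  have h1 := isIrrCharacter_comp (QuotientGroup.mk' N) (QuotientGroup.mk'_surjective N) hχ
  have h3 : charDegree (fun x : G => χ (QuotientGroup.mk' N x)) = charDegree χ := by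
    unfold charDegree
    simp
  have h2 := h _ h1 (by rwa [h3])
  rwa [h3] at h2

theorem PrimeNonlinDeg.normal {G : Type*} [Group G] [Finite G] (h : PrimeNonlinDeg G)
    (N : Subgroup G) [N.Normal] : PrimeNonlinDeg N := by
  classical
  intro θ hθ hne
  have : Fintype G := Fintype.ofFinite G
  have : Fintype N := Fintype.ofFinite N
  obtain ⟨χ, hχ, hcon⟩ := exists_irr_over_normal N hθ
  obtain ⟨k, hk, -⟩ := Helper15.degree_eq_mul_of_constituent N χ hχ θ hθ hcon
  rw [isCharacter_one_eq_charDegree (isCharacter_of_irr hχ),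
    isCharacter_one_eq_charDegree (isCharacter_of_irr hθ)] at hk
  have h1 : charDegree χ = k * charDegree θ := by exact_mod_cast hk
  have hdvd : charDegree θ ∣ charDegree χ := h1 ▸ Dvd.intro_left k rfl
  have hχ1 : charDegree χ ≠ 1 := by
    intro h1'
    rw [h1'] at hdvd
    exact hne (Nat.dvd_one.mp hdvd)
  have hp := h χ hχ hχ1
  rcases (Nat.dvd_prime hp).mp hdvd with h2 | h2
  · exact absurd h2 hne
  · rwa [h2]

theorem simple_center_eq_bot {G : Type*} [Group G] [IsSimpleGroup G]
    (hnc : ¬ ∀ a b : G, a * b = b * a) : Subgroup.center G = ⊥ := by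
  rcases IsSimpleGroup.eq_bot_or_eq_top_of_normal (Subgroup.center G) inferInstance with hZ | hZ
  · exact hZ
  · exfalso
    apply hnc
    intro a b
    have ha : a ∈ Subgroup.center G := by rw [hZ]; trivial
    exact (Subgroup.mem_center_iff.mp ha b).symm

theorem simple_commutator_eq_top {G : Type*} [Group G] [IsSimpleGroup G]
    (hnc : ¬ ∀ a b : G, a * b = b * a) : commutator G = ⊤ := by
  rcases IsSimpleGroup.eq_bot_or_eq_top_of_normal (commutator G) inferInstance with hZ | hZ
  · exfalso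
    apply hnc
    intro a b
    have h1 : ⁅a, b⁆ ∈ commutator G :=
      Subgroup.commutator_mem_commutator (Subgroup.mem_top a) (Subgroup.mem_top b)
    rw [hZ, Subgroup.mem_bot, commutatorElement_eq_one_iff_mul_comm] at h1
    exact h1
  · exact hZ

/-- A linear character of a nonabelian simple group is trivial. -/
theorem simple_irr_linear_eq_one {G : Type*} [Group G] [Finite G] [IsSimpleGroup G]
    (hnc : ¬ ∀ a b : G, a * b = b * a) (χ : IrrCharacter G) (h : charDegree (χ : G → ℂ) = 1) :
    (χ : G → ℂ) = fun _ => 1 := by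
  funext g
  have h1 := irr_commutator_le_ker_of_linear χ h g
    (by rw [simple_commutator_eq_top hnc]; trivial)
  rw [h1, isCharacter_one_eq_charDegree (irr_isCharacter χ), h]
  simp

/-- A nonlinear irreducible character of a simple group is faithful. -/
theorem simple_irr_faithful {G : Type*} [Group G] [Finite G] [IsSimpleGroup G]
    (χ : IrrCharacter G) (h : charDegree (χ : G → ℂ) ≠ 1) :
    ∀ g : G, (χ : G → ℂ) g = (χ : G → ℂ) 1 → g = 1 := by
  classical
  have : Fintype G := Fintype.ofFinite G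
  have hχ := irr_isCharacter χ
  have hn : (charKer hχ).Normal := charKer_normal hχ
  rcases IsSimpleGroup.eq_bot_or_eq_top_of_normal (charKer hχ) hn with hK | hK
  · intro g hg
    have : g ∈ charKer hχ := hg
    rw [hK, Subgroup.mem_bot] at this
    exact this
  · exfalso
    have hconst : ∀ g : G, (χ : G → ℂ) g = (χ : G → ℂ) 1 := by
      intro g
      have : g ∈ charKer hχ := by rw [hK]; trivial
      exact this
    have horth := Helper80.irr_orthogonality χ χ
    rw [if_pos rfl] at horth
    have hsum : ∑ g : G, (χ : G → ℂ) g * (χ : G → ℂ) g⁻¹ =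
        ∑ _g : G, (χ : G → ℂ) 1 * (χ : G → ℂ) 1 :=
      Finset.sum_congr rfl (fun g _ => by rw [hconst g, hconst g⁻¹])
    rw [hsum, Finset.sum_const, Finset.card_univ, nsmul_eq_mul] at horth
    have hG : (Fintype.card G : ℂ) ≠ 0 := by exact_mod_cast Fintype.card_ne_zero
    have hd : (χ : G → ℂ) 1 * (χ : G → ℂ) 1 = 1 :=
      mul_left_cancel₀ hG (horth.trans (mul_one _).symm)
    rw [isCharacter_one_eq_charDegree hχ] at hd
    have hd' : charDegree (χ : G → ℂ) * charDegree (χ : G → ℂ) = 1 := by exact_mod_cast hd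
    exact h (Nat.eq_one_of_mul_eq_one_left hd')

/-- In a nonabelian simple group, an element acting as a scalar in a faithful representation is
trivial. -/
theorem simple_eq_one_of_scalar {G : Type*} [Group G] [Finite G] [IsSimpleGroup G]
    (hnc : ¬ ∀ a b : G, a * b = b * a) {n : ℕ} (ρ : Representation ℂ G (Fin n → ℂ))
    (hfaith : ∀ g : G, ρ.character g = ρ.character 1 → g = 1) (g : G) (ω : ℂ)
    (hω : ρ g = ω • (LinearMap.id : (Fin n → ℂ) →ₗ[ℂ] (Fin n → ℂ))) : g = 1 := by
  have hcen : g ∈ Subgroup.center G := by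
    rw [Subgroup.mem_center_iff]
    intro k
    have h1 : ρ (k * g) = ρ (g * k) := by
      rw [map_mul, map_mul, hω]
      ext v
      simp
    have h2 : ρ ((k * g) * (g * k)⁻¹) = 1 := by
      rw [map_mul, h1, ← map_mul, mul_inv_cancel, map_one]
    have h2' : ρ ((k * g) * (g * k)⁻¹) = ρ 1 := by rw [h2, map_one]
    have h3 : ρ.character ((k * g) * (g * k)⁻¹) = ρ.character 1 := by
      show LinearMap.trace ℂ _ (ρ ((k * g) * (g * k)⁻¹)) = LinearMap.trace ℂ _ (ρ 1)
      rw [h2']
    exact mul_inv_eq_one.mp (hfaith _ h3)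
  rw [simple_center_eq_bot hnc, Subgroup.mem_bot] at hcen
  exact hcen

/-- Burnside: in a nonabelian simple group, a nonlinear irreducible character vanishes at every
nonidentity element whose class size is prime to its degree. -/
theorem simple_irr_vanish_of_coprime {G : Type*} [Group G] [Finite G] [IsSimpleGroup G]
    (hnc : ¬ ∀ a b : G, a * b = b * a) (χ : IrrCharacter G) (h : charDegree (χ : G → ℂ) ≠ 1)
    (g : G) (hg : g ≠ 1)
    (hcop : Nat.Coprime (charDegree (χ : G → ℂ)) (Subgroup.centralizer ({g} : Set G)).index) :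
    (χ : G → ℂ) g = 0 := by
  classical
  have hfaith := simple_irr_faithful χ h
  obtain ⟨n, ρ, hρ, hχeq⟩ := χ.2
  have := hρ
  have hdeg : charDegree (χ : G → ℂ) = Module.finrank ℂ (Fin n → ℂ) := by
    rw [← hχeq, Helper80.charDegree_rep_character]
    simp
  rw [hdeg] at hcop
  rcases Helper3.burnside_coprime ρ g hcop with h0 | hnorm
  · rw [← hχeq]
    exact h0
  · exfalso
    obtain ⟨ω, hω⟩ := Helper3.rep_scalar_of_norm_eq ρ g hnorm
    exact hg (simple_eq_one_of_scalar hnc ρ (by rw [hχeq]; exact hfaith) g ω hω)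

/-- If `x ≠ 1` and `p ≥ 2`, then not all `χ(1)χ(x)/p` (`χ` nonprincipal) are algebraic
integers. -/
theorem irr_not_all_integral_div {G : Type*} [Group G] [Finite G] (p : ℕ) (hp : 2 ≤ p)
    (g : G) (hg : g ≠ 1)
    (hint : ∀ χ : IrrCharacter G, (χ : G → ℂ) ≠ (fun _ => 1) →
      IsIntegral ℤ ((χ : G → ℂ) 1 * (χ : G → ℂ) g / (p : ℂ))) : False := by
  classical
  have : Fintype G := Fintype.ofFinite G
  have : Fintype (IrrCharacter G) := Fintype.ofFinite _
  have hp0 : (p : ℂ) ≠ 0 := by exact_mod_cast (by omega : p ≠ 0)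
  have hsum := Helper80.irr_finsum_degree_mul_of_ne_one hg
  rw [finsum_eq_sum_of_fintype] at hsum
  let t : IrrCharacter G := Helper80.trivIrr G
  rw [← Finset.add_sum_erase Finset.univ _ (Finset.mem_univ t)] at hsum
  have ht : (t : G → ℂ) 1 * (t : G → ℂ) g = 1 := by
    simp [t]
  have hint' : IsIntegral ℤ
      ((∑ χ ∈ Finset.univ.erase t, (χ : G → ℂ) 1 * (χ : G → ℂ) g) / (p : ℂ)) := by
    rw [Finset.sum_div]
    refine IsIntegral.sum _ (fun χ hχ => ?_)
    apply hint χ
    intro h
    exact (Finset.ne_of_mem_erase hχ) (Subtype.ext h)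
  have hval : (∑ χ ∈ Finset.univ.erase t, (χ : G → ℂ) 1 * (χ : G → ℂ) g) = -1 := by
    linear_combination hsum - ht
  rw [hval] at hint'
  have hq : (-1 / (p : ℂ)) = algebraMap ℚ ℂ (-1 / (p : ℚ)) := by simp
  rw [hq] at hint'
  have hint2 : IsIntegral ℤ (-1 / (p : ℚ)) :=
    (isIntegral_algebraMap_iff (algebraMap ℚ ℂ).injective).1 hint'
  obtain ⟨m, hm⟩ := IsIntegrallyClosed.isIntegral_iff.1 hint2
  have hp0' : (p : ℚ) ≠ 0 := by exact_mod_cast (by omega : p ≠ 0)
  have hm2 : (m : ℚ) * (p : ℚ) = -1 := by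
    have : (algebraMap ℤ ℚ) m = (m : ℚ) := rfl
    rw [this] at hm
    rw [hm]
    field_simp
  have hm3 : m * (p : ℤ) = -1 := by exact_mod_cast hm2
  have hdvd : ((p : ℕ) : ℤ) ∣ ((1 : ℕ) : ℤ) := ⟨-m, by push_cast; linarith⟩
  have := Nat.dvd_one.mp (Int.natCast_dvd_natCast.mp hdvd)
  omega

/-- A nonabelian simple group has no irreducible character of degree two. -/
theorem simple_no_degree_two {G : Type*} [Group G] [Finite G] [IsSimpleGroup G]
    (hnc : ¬ ∀ a b : G, a * b = b * a) (χ : IrrCharacter G)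
    (h : charDegree (χ : G → ℂ) = 2) : False := by
  classical
  have hfaith := simple_irr_faithful χ (by rw [h]; norm_num)
  have hdvd : 2 ∣ Nat.card G := h ▸ isIrrCharacter_charDegree_dvd_card χ.2
  have : Fact (Nat.Prime 2) := ⟨Nat.prime_two⟩
  obtain ⟨t, ht⟩ := exists_prime_orderOf_dvd_card' 2 hdvd
  obtain ⟨n, ρ, hρ, hχeq⟩ := χ.2
  have hn : n = 2 := by
    rw [← h, ← hχeq, Helper80.charDegree_rep_character]
  subst hn
  have hdet : ∀ g : G, LinearMap.det (ρ g) = 1 := by
    intro g
    have h1 := hom_apply_eq_one_of_mem_commutator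
      ((LinearMap.det.comp (ρ : G →* ((Fin 2 → ℂ) →ₗ[ℂ] (Fin 2 → ℂ)))).toHomUnits) (g := g)
      (by rw [simple_commutator_eq_top hnc]; trivial)
    have h2 := congrArg Units.val h1
    rw [MonoidHom.coe_toHomUnits] at h2
    simpa using h2
  obtain ⟨M, hM⟩ : ∃ M : Matrix (Fin 2) (Fin 2) ℂ, M = LinearMap.toMatrix' (ρ t) := ⟨_, rfl⟩
  have ht2 : t * t = 1 := by
    rw [← pow_two, ← ht]
    exact pow_orderOf_eq_one t
  have hMM : M * M = 1 := by
    rw [hM, ← LinearMap.toMatrix'_mul, ← map_mul ρ, ht2, map_one]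
    exact LinearMap.toMatrix'_id
  have hMdet : M.det = 1 := by
    rw [hM, LinearMap.det_toMatrix']
    exact hdet t
  have e00 := congrFun (congrFun hMM 0) 0
  have e01 := congrFun (congrFun hMM 0) 1
  have e10 := congrFun (congrFun hMM 1) 0
  have e11 := congrFun (congrFun hMM 1) 1
  simp only [Matrix.mul_apply, Fin.sum_univ_two, Matrix.one_apply_eq] at e00 e11
  rw [Matrix.mul_apply, Fin.sum_univ_two, Matrix.one_apply_ne (by decide)] at e01 e10
  rw [Matrix.det_fin_two] at hMdet
  have h1 : M 0 0 * (M 0 0 + M 1 1) = 2 := by linear_combination e00 + hMdet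
  have h2 : M 1 1 * (M 0 0 + M 1 1) = 2 := by linear_combination e11 + hMdet
  have hs : M 0 0 + M 1 1 ≠ 0 := by
    intro hs
    rw [hs, mul_zero] at h1
    norm_num at h1
  have had : M 1 1 = M 0 0 := mul_right_cancel₀ hs (h2.trans h1.symm)
  have hb : M 0 1 = 0 := by
    have : M 0 1 * (M 0 0 + M 1 1) = 0 := by linear_combination e01
    rcases mul_eq_zero.mp this with h | h
    · exact h
    · exact absurd h hs
  have hc : M 1 0 = 0 := by
    have : M 1 0 * (M 0 0 + M 1 1) = 0 := by linear_combination e10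
    rcases mul_eq_zero.mp this with h | h
    · exact h
    · exact absurd h hs
  have hscal : M = (M 0 0) • (1 : Matrix (Fin 2) (Fin 2) ℂ) := by
    ext i j
    fin_cases i <;> fin_cases j <;> simp [hb, hc, had]
  have hρt : ρ t = (M 0 0) • (LinearMap.id : (Fin 2 → ℂ) →ₗ[ℂ] (Fin 2 → ℂ)) := by
    apply LinearMap.toMatrix'.injective
    rw [← hM, map_smul, LinearMap.toMatrix'_id]
    exact hscal
  have ht1 := simple_eq_one_of_scalar hnc ρ (by rw [hχeq]; exact hfaith) t (M 0 0) hρt
  rw [ht1, orderOf_one] at ht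
  norm_num at ht

/-- A nonabelian simple group has a nonlinear irreducible character whose degree is not a
prime. -/
theorem pnd_simple_false {G : Type u} [Group G] [Finite G] [IsSimpleGroup G]
    (hnc : ¬ ∀ a b : G, a * b = b * a) (h : PrimeNonlinDeg G) : False := by
  classical
  have hc : commutator G ≠ ⊥ := by
    rw [simple_commutator_eq_top hnc]
    exact top_ne_bot
  obtain ⟨χ₀, hχ₀⟩ := exists_nonlinear_of_commutator_ne_bot hc
  have hex : ∃ d : ℕ, ∃ χ : IrrCharacter G,
      charDegree (χ : G → ℂ) ≠ 1 ∧ charDegree (χ : G → ℂ) = d := ⟨_, χ₀, hχ₀, rfl⟩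
  obtain ⟨d₁, hd₁def⟩ : ∃ d₁ : ℕ, d₁ = Nat.find hex := ⟨_, rfl⟩
  obtain ⟨χ₁, hχ₁, hd₁'⟩ := Nat.find_spec hex
  have hd₁ : charDegree (χ₁ : G → ℂ) = d₁ := hd₁'.trans hd₁def.symm
  have hmin : ∀ χ : IrrCharacter G, charDegree (χ : G → ℂ) ≠ 1 →
      d₁ ≤ charDegree (χ : G → ℂ) := by
    intro χ hχ
    rw [hd₁def]
    exact Nat.find_min' hex ⟨χ, hχ, rfl⟩
  have hd₁p : d₁.Prime := by
    rw [← hd₁]
    exact h χ₁ χ₁.2 hχ₁
  have hd₁2 : d₁ ≠ 2 := by
    intro h2
    exact simple_no_degree_two hnc χ₁ (hd₁.trans h2)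
  have hd₁odd : ¬ 2 ∣ d₁ := by
    intro h2
    exact hd₁2 ((Nat.prime_dvd_prime_iff_eq Nat.prime_two hd₁p).mp h2).symm
  obtain ⟨A, hAab, hA1, hA2⟩ := Helper76.blich_hall (χ₁ : G → ℂ) (irr_isCharacter χ₁)
    (simple_irr_faithful χ₁ hχ₁) d₁ hd₁
  have key : ∀ χ : IrrCharacter G, charDegree (χ : G → ℂ) ≠ 1 →
      charDegree (χ : G → ℂ) ≠ d₁ →
      (charDegree (χ : G → ℂ)).Prime ∧ d₁ + 1 < charDegree (χ : G → ℂ) := by
    intro χ hχ hne
    have hp := h χ χ.2 hχ
    refine ⟨hp, ?_⟩
    have h1 := hmin χ hχ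
    have h2 : charDegree (χ : G → ℂ) ≠ d₁ + 1 := by
      intro h3
      rw [h3] at hp
      have h4 : 2 ∣ d₁ + 1 := by omega
      have h5 := (Nat.prime_dvd_prime_iff_eq Nat.prime_two hp).mp h4
      have := hd₁p.two_le
      omega
    omega
  obtain ⟨x, hx1, hx⟩ : ∃ x : G, x ≠ 1 ∧ ∀ χ : IrrCharacter G,
      charDegree (χ : G → ℂ) ≠ 1 → charDegree (χ : G → ℂ) ≠ d₁ → (χ : G → ℂ) x = 0 := by
    by_cases hA : A = ⊥
    · obtain ⟨x, hx⟩ := exists_ne (1 : G)
      refine ⟨x, hx, fun χ hχ hne => ?_⟩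
      exfalso
      obtain ⟨hp, hlt⟩ := key χ hχ hne
      have hdvd : charDegree (χ : G → ℂ) ∣ Nat.card G := isIrrCharacter_charDegree_dvd_card χ.2
      rw [← Subgroup.index_mul_card A, hA, Subgroup.card_bot, mul_one] at hdvd
      have := hA2 _ hp (hA ▸ hdvd)
      omega
    · obtain ⟨⟨x, hxA⟩, hx1⟩ := Subgroup.ne_bot_iff_exists_ne_one.mp hA
      have hx1' : x ≠ 1 := fun hx => hx1 (Subtype.ext hx)
      refine ⟨x, hx1', fun χ hχ hne => ?_⟩
      obtain ⟨hp, hlt⟩ := key χ hχ hne
      apply simple_irr_vanish_of_coprime hnc χ hχ x hx1'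
      rw [Nat.Prime.coprime_iff_not_dvd hp]
      intro hdvd
      have hle : A ≤ Subgroup.centralizer ({x} : Set G) := by
        intro a ha
        rw [Subgroup.mem_centralizer_iff]
        intro y hy
        rw [Set.mem_singleton_iff] at hy
        subst hy
        exact hAab y hxA a ha
      have := hA2 _ hp (hdvd.trans (Subgroup.index_dvd_of_le hle))
      omega
  apply irr_not_all_integral_div d₁ hd₁p.two_le x hx1
  intro χ hχne
  have hχ1 : charDegree (χ : G → ℂ) ≠ 1 := fun h1 =>
    hχne (simple_irr_linear_eq_one hnc χ h1)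
  by_cases hd : charDegree (χ : G → ℂ) = d₁
  · rw [isCharacter_one_eq_charDegree (irr_isCharacter χ), hd]
    have hd0 : (d₁ : ℂ) ≠ 0 := by exact_mod_cast hd₁p.ne_zero
    rw [mul_div_assoc, mul_div_cancel₀ _ hd0]
    exact Helper80.isCharacter_isIntegral (irr_isCharacter χ) x
  · rw [hx χ hχ1 hd]
    simp [isIntegral_zero]

/-- **Isaacs–Passman.** A finite group all of whose nonlinear irreducible characters have prime
degree is solvable. -/
theorem pnd_solvable_aux : ∀ (n : ℕ) (G : Type u) [Group G] [Finite G], Nat.card G = n →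
    PrimeNonlinDeg G → Group.IsSolvable G := by
  intro n
  induction n using Nat.strong_induction_on with
  | _ n ih =>
    intro G _ _ hn h
    by_cases hsimp : ∃ N : Subgroup G, N.Normal ∧ N ≠ ⊥ ∧ N ≠ ⊤
    · obtain ⟨N, hN, hbot, htop⟩ := hsimp
      have hlt1 : Nat.card N < n := by
        rw [← hn]
        exact lt_of_le_of_ne (Subgroup.card_le_card_group N)
          (fun h => htop (Subgroup.eq_top_of_card_eq N h))
      have hlt2 : Nat.card (G ⧸ N) < n := by
        rw [← hn, ← Subgroup.index_eq_card, ← Subgroup.index_mul_card N]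
        have h1 : 1 < Nat.card N := (Subgroup.one_lt_card_iff_ne_bot N).mpr hbot
        have h2 : 0 < N.index := Nat.pos_of_ne_zero Subgroup.index_ne_zero_of_finite
        nlinarith
      have s1 : Group.IsSolvable N := ih _ hlt1 N rfl (h.normal N)
      have s2 : Group.IsSolvable (G ⧸ N) := ih _ hlt2 (G ⧸ N) rfl (h.quotient N)
      exact Group.isSolvable_of_ker_le_range N.subtype (QuotientGroup.mk' N) (by simp)
    · by_cases hsub : Subsingleton G
      · exact Group.isSolvable_of_comm (fun a b => Subsingleton.elim _ _)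
      · have : Nontrivial G := not_subsingleton_iff_nontrivial.mp hsub
        have : IsSimpleGroup G := ⟨fun N hN => by
          by_contra hcon
          push Not at hcon
          exact hsimp ⟨N, hN, hcon.1, hcon.2⟩⟩
        by_cases hnc : ∀ a b : G, a * b = b * a
        · exact Group.isSolvable_of_comm hnc
        · exact (pnd_simple_false hnc h).elim

end Cfsg.Agent.Helper79
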