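import Mathlib

/-!
# CALL S2314 (helper40), piece SYL (helper79): the Sylow step (pure Mathlib)
-/

set_option autoImplicit false

namespace Cfsg.Agent.Helper79.UCSYL

theorem card_mul_le_of_disjoint {Γ : Type*} [Group Γ] [Finite Γ] (A B X : Subgroup Γ) (hA : A ≤ X)
    (hB : B ≤ X) (hAB : A ⊓ B = ⊥) : Nat.card A * Nat.card B ≤ Nat.card X := by
  rw [← Nat.card_prod]
  refine Nat.card_le_card_of_injective
    (fun ab : A × B => (⟨(ab.1 : Γ) * (ab.2 : Γ), X.mul_mem (hA ab.1.2) (hB ab.2.2)⟩ : X)) ?_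
  rintro ⟨a, b⟩ ⟨a', b'⟩ hab
  have h1 : (a : Γ) * b = a' * b' := congrArg Subtype.val hab
  have h2 : (a' : Γ)⁻¹ * a = b' * (b : Γ)⁻¹ := by
    rw [inv_mul_eq_iff_eq_mul, ← mul_assoc, ← h1, mul_inv_cancel_right]
  have h3 : (a' : Γ)⁻¹ * a ∈ A ⊓ B :=
    ⟨A.mul_mem (A.inv_mem a'.2) a.2, by rw [h2]; exact B.mul_mem b'.2 (B.inv_mem b.2)⟩
  rw [hAB, Subgroup.mem_bot] at h3
  have ha : (a : Γ) = a' := (inv_mul_eq_one.mp h3).symm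
  have hb : (b : Γ) = b' := by
    rw [ha] at h1; exact mul_left_cancel h1
  exact Prod.ext (Subtype.ext ha) (Subtype.ext hb)

/-- SYL (pure Mathlib): the Sylow step. -/
theorem sylow_step {Γ : Type*} [Group Γ] [Finite Γ] (p : ℕ) [Fact p.Prime]
    (U V PJ UJ Y : Subgroup Γ) (hU : U ≤ PJ) (hUJ : UJ ≤ U)
    (hnorm : ∀ g ∈ PJ, ∀ u ∈ UJ, g * u * g⁻¹ ∈ UJ) (hYP : Y ≤ PJ) (hYV : Y ≤ V)
    (hUV : U ⊓ V = ⊥) (hVp : IsPGroup p V)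
    (hcard : Nat.card U ≤ Nat.card UJ * Nat.card Y)
    (hsyl : ∀ Q : Subgroup Γ, Q ≤ PJ → IsPGroup p Q → ∃ c ∈ PJ, ∀ x ∈ Q, c⁻¹ * x * c ∈ U) :
    ∃ c ∈ PJ, ∀ u ∈ U, c⁻¹ * u * c ∈ U → u ∈ UJ := by
  classical
  have hYp : IsPGroup p Y := hVp.to_le hYV
  obtain ⟨c, hcPJ, hcY⟩ := hsyl Y hYP hYp
  refine ⟨c, hcPJ, ?_⟩
  have hXU : ∀ x ∈ (UJ ⊔ Y : Subgroup Γ), c⁻¹ * x * c ∈ U := by
    have hle : (UJ ⊔ Y : Subgroup Γ) ≤ U.comap (MulAut.conj c⁻¹).toMonoidHom := by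
      refine sup_le ?_ ?_
      · intro u hu
        show c⁻¹ * u * c⁻¹⁻¹ ∈ U
        exact hUJ (hnorm c⁻¹ (PJ.inv_mem hcPJ) u hu)
      · intro y hy
        show c⁻¹ * y * c⁻¹⁻¹ ∈ U
        rw [inv_inv]; exact hcY y hy
    intro x hx
    have h2 : c⁻¹ * x * c⁻¹⁻¹ ∈ U := hle hx
    rwa [inv_inv] at h2
  have hinj : Function.Injective
      (fun x : (UJ ⊔ Y : Subgroup Γ) => (⟨c⁻¹ * (x : Γ) * c, hXU x x.2⟩ : U)) := by
    intro x x' hxx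
    have h1 : c⁻¹ * (x : Γ) * c = c⁻¹ * (x' : Γ) * c := congrArg Subtype.val hxx
    exact Subtype.ext (mul_left_cancel (mul_right_cancel h1))
  have hXleU : Nat.card (UJ ⊔ Y : Subgroup Γ) ≤ Nat.card U := Nat.card_le_card_of_injective _ hinj
  have hdisj1 : UJ ⊓ Y = ⊥ := by
    rw [eq_bot_iff, ← hUV]; exact inf_le_inf hUJ hYV
  have h6 := card_mul_le_of_disjoint UJ Y (UJ ⊔ Y) le_sup_left le_sup_right hdisj1
  have hXeq : Nat.card (UJ ⊔ Y : Subgroup Γ) = Nat.card U := le_antisymm hXleU (hcard.trans h6)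
  have hbij := Function.Injective.bijective_of_nat_card_le hinj hXeq.ge
  have hdisj2 : ((UJ ⊔ Y) ⊓ U) ⊓ Y = ⊥ := by
    rw [eq_bot_iff, ← hUV]; exact inf_le_inf inf_le_right hYV
  have h9 := card_mul_le_of_disjoint ((UJ ⊔ Y) ⊓ U) Y (UJ ⊔ Y) inf_le_left le_sup_right hdisj2
  have hYpos : 0 < Nat.card Y := Nat.card_pos
  have h10 : Nat.card ((UJ ⊔ Y) ⊓ U : Subgroup Γ) ≤ Nat.card UJ := by
    have h : Nat.card ((UJ ⊔ Y) ⊓ U : Subgroup Γ) * Nat.card Y ≤ Nat.card UJ * Nat.card Y :=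
      (h9.trans hXeq.le).trans hcard
    exact Nat.le_of_mul_le_mul_right h hYpos
  have h11 : UJ = (UJ ⊔ Y) ⊓ U := Subgroup.eq_of_le_of_card_ge (le_inf le_sup_left hUJ) h10
  intro u hu hcu
  obtain ⟨x, hx⟩ := hbij.2 ⟨c⁻¹ * u * c, hcu⟩
  have h1 : c⁻¹ * (x : Γ) * c = c⁻¹ * u * c := congrArg Subtype.val hx
  have hxu : (x : Γ) = u := mul_left_cancel (mul_right_cancel h1)
  rw [h11]
  exact ⟨hxu ▸ x.2, hu⟩

end Cfsg.Agent.Helper79.UCSYL
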